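/-
Transitive groups of degree `p ^ 2` (`p` prime) with a block system: the relation of lying in
a common block, its kernel, and the action of a Sylow `p`-subgroup.
-/
import Mathlib

set_option autoImplicit false

namespace CfsgLib.TwoTransSqSucc

open MulAction
open scoped Pointwise

variable (A : Type*) {X : Type*} [Group A] [MulAction A X]

/-- An invariant equivalence relation with all classes of size `p`. -/
structure IsBlockRel (p : ℕ) (r : X → X → Prop) : Prop where
  refl : ∀ x, r x x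
  symm : ∀ {x y}, r x y → r y x
  trans : ∀ {x y z}, r x y → r y z → r x z
  smul : ∀ (g : A) {x y}, r x y → r (g • x) (g • y)
  card : ∀ x, {y | r x y}.ncard = p

variable {A} {p : ℕ} {r : X → X → Prop}

/-- The class of `x`. -/
def relClass (r : X → X → Prop) (x : X) : Set X := {y | r x y}

theorem mem_relClass {x y : X} : y ∈ relClass r x ↔ r x y := Iff.rfl

/-- The points fixed by a subgroup. -/
def fixSet (X : Type*) [MulAction A X] (Q : Subgroup A) : Set X := {x | ∀ q ∈ Q, q • x = x}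

theorem smul_inv_conj (g q : A) (x : X) : (g⁻¹ * q * g) • x = g⁻¹ • q • g • x := by
  rw [mul_smul, mul_smul]

/-- The kernel of the action on the classes. -/
def kerRel (h : IsBlockRel A p r) : Subgroup A where
  carrier := {g | ∀ x, r x (g • x)}
  one_mem' x := by rw [one_smul]; exact h.refl x
  mul_mem' {a b} ha hb x := by rw [mul_smul]; exact h.trans (hb x) (ha _)
  inv_mem' {a} ha x := by
    have := ha (a⁻¹ • x)
    rw [smul_inv_smul] at this
    exact h.symm this

theorem mem_kerRel {h : IsBlockRel A p r} {g : A} : g ∈ kerRel h ↔ ∀ x, r x (g • x) := Iff.rfl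

theorem kerRel_normal (h : IsBlockRel A p r) : (kerRel h).Normal := ⟨fun k hk g x => by
  have := h.smul g (hk (g⁻¹ • x))
  rwa [smul_inv_smul, ← mul_smul, ← mul_smul] at this⟩

/-- The stabiliser of the class of `b`. -/
def classStab (h : IsBlockRel A p r) (b : X) : Subgroup A where
  carrier := {g | r b (g • b)}
  one_mem' := by show r b _; rw [one_smul]; exact h.refl b
  mul_mem' {a c} ha hc := by
    show r b _
    rw [mul_smul]; exact h.trans ha (h.smul a hc)
  inv_mem' {a} ha := by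
    show r b _
    have := h.smul a⁻¹ ha
    rw [inv_smul_smul] at this
    exact h.symm this

variable [Finite A] [Finite X] [hp : Fact p.Prime]

theorem ncard_orbit_mul (H : Subgroup A) (x : X) :
    (orbit H x).ncard * Nat.card ↥(H ⊓ stabilizer A x) = Nat.card H := by
  have e : stabilizer H x ≃ ↥(H ⊓ stabilizer A x) :=
    { toFun := fun g => ⟨(g.1 : A), g.1.2, g.2⟩
      invFun := fun g => ⟨⟨g.1, g.2.1⟩, g.2.2⟩
      left_inv := fun _ => rfl
      right_inv := fun _ => rfl }
  rw [← Nat.card_congr e, ← Nat.card_coe_set_eq, ← Nat.card_prod,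
    Nat.card_congr (orbitProdStabilizerEquivGroup H x)]

theorem card_eq_mul_stabilizer [IsPretransitive A X] (hX : Nat.card X = p ^ 2) (x : X) :
    Nat.card A = p ^ 2 * Nat.card (stabilizer A x) := by
  rw [← hX, ← Subgroup.card_mul_index (stabilizer A x), index_stabilizer_of_transitive,
    mul_comm]

theorem not_dvd_all [IsPretransitive A X] (hX : Nat.card X = p ^ 2) {b : X}
    (hb : ¬ p ∣ Nat.card (stabilizer A b)) (x : X) : ¬ p ∣ Nat.card (stabilizer A x) := by
  have h1 := card_eq_mul_stabilizer (A := A) hX x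
  rw [card_eq_mul_stabilizer (A := A) hX b,
    mul_right_inj' (pow_ne_zero 2 hp.out.ne_zero)] at h1
  rwa [← h1]

/-- An imprimitive group of degree `p ^ 2` has a block relation. -/
theorem exists_isBlockRel [IsPretransitive A X] (hX : Nat.card X = p ^ 2)
    (hnp : ¬ IsPreprimitive A X) : ∃ r : X → X → Prop, IsBlockRel A p r := by
  obtain ⟨B, hB, hnt⟩ : ∃ B : Set X, IsBlock A B ∧ ¬ IsTrivialBlock B := by
    by_contra h
    push_neg at h
    exact hnp { isTrivialBlock_of_isBlock := fun {B} hB => h B hB }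
  rw [IsTrivialBlock, not_or, Set.not_subsingleton_iff] at hnt
  obtain ⟨hnt1, hnt2⟩ := hnt
  have hne : B.Nonempty := hnt1.nonempty
  have hd := hB.ncard_dvd_card hne
  rw [hX] at hd
  obtain ⟨i, hi, hBi⟩ := (Nat.dvd_prime_pow hp.out).1 hd
  have h1 : 1 < B.ncard := Set.one_lt_ncard_iff_nontrivial.2 hnt1
  have h2 : B.ncard ≠ p ^ 2 := fun h => hnt2 ((Set.eq_univ_iff_ncard _).2 (by rw [h, hX]))
  have hBp : B.ncard = p := by
    interval_cases i
    · simp [hBi] at h1
    · simpa using hBi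
    · exact absurd hBi h2
  obtain ⟨b0, hb0⟩ := hne
  have key : ∀ {g g' : A} {y : X}, y ∈ g • B → y ∈ g' • B → g • B = g' • B := by
    intro g g' y h h'
    exact hB.smul_eq_smul_of_nonempty ⟨y, h, h'⟩
  refine ⟨fun x y => ∃ g : A, x ∈ g • B ∧ y ∈ g • B,
    { refl := ?_, symm := ?_, trans := ?_, smul := ?_, card := ?_ }⟩
  · intro x
    obtain ⟨g, hg⟩ := exists_smul_eq A b0 x
    exact ⟨g, hg ▸ Set.smul_mem_smul_set hb0, hg ▸ Set.smul_mem_smul_set hb0⟩
  · rintro x y ⟨g, h1, h2⟩; exact ⟨g, h2, h1⟩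
  · rintro x y z ⟨g, h1, h2⟩ ⟨g', h3, h4⟩
    exact ⟨g, h1, key h3 h2 ▸ h4⟩
  · rintro k x y ⟨g, h1, h2⟩
    refine ⟨k * g, ?_, ?_⟩ <;> rw [mul_smul] <;> exact Set.smul_mem_smul_set ‹_›
  · intro x
    obtain ⟨g, hg⟩ := exists_smul_eq A b0 x
    have hx : x ∈ g • B := hg ▸ Set.smul_mem_smul_set hb0
    have : {y | ∃ g' : A, x ∈ g' • B ∧ y ∈ g' • B} = g • B := by
      ext y
      exact ⟨fun ⟨g', h1, h2⟩ => key h1 hx ▸ h2, fun hy => ⟨g, hx, hy⟩⟩
    rw [this, Set.ncard_smul_set, hBp]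

/-- A Sylow `p`-subgroup is transitive. -/
theorem sylow_transitive [IsPretransitive A X] (hX : Nat.card X = p ^ 2) (P : Sylow p A)
    (x y : X) : ∃ g ∈ (P : Subgroup A), g • x = y := by
  have h1 := ncard_orbit_mul (P : Subgroup A) x
  have hPi := Subgroup.card_mul_index (P : Subgroup A)
  rw [card_eq_mul_stabilizer (A := A) hX x, ← h1] at hPi
  obtain ⟨t, ht⟩ : Nat.card ↥((P : Subgroup A) ⊓ stabilizer A x) ∣ Nat.card (stabilizer A x) :=
    Subgroup.card_dvd_of_le inf_le_right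
  rw [ht] at hPi
  have h2 : (orbit (P : Subgroup A) x).ncard * (P : Subgroup A).index = p ^ 2 * t :=
    Nat.eq_of_mul_eq_mul_left
      (Nat.card_pos (α := ↥((P : Subgroup A) ⊓ stabilizer A x))) (by linarith)
  have h3 : p ^ 2 ∣ (orbit (P : Subgroup A) x).ncard :=
    (Nat.Coprime.pow_left 2 ((hp.out.coprime_iff_not_dvd).2 P.not_dvd_index)).dvd_of_dvd_mul_right
      ⟨t, h2⟩
  have h4 : orbit (P : Subgroup A) x = Set.univ := by
    refine Set.eq_of_subset_of_ncard_le (Set.subset_univ _) ?_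
    rw [Set.ncard_univ, hX]
    exact Nat.le_of_dvd ((Set.ncard_pos).2 (MulAction.nonempty_orbit x)) h3
  obtain ⟨g, hg⟩ : y ∈ orbit (P : Subgroup A) x := h4 ▸ Set.mem_univ y
  exact ⟨g.1, g.2, hg⟩

/-- A subgroup of index `p` of a `p`-group is normal. -/
theorem conj_mem_of_card_mul {H S : Subgroup A} (hH : IsPGroup p H) (hle : S ≤ H)
    (hc : Nat.card S * p = Nat.card H) {g s : A} (hg : g ∈ H) (hs : s ∈ S) :
    g * s * g⁻¹ ∈ S := by
  have hi : (S.subgroupOf H).index = p := by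
    have h1 := Subgroup.card_mul_index (S.subgroupOf H)
    rw [Nat.card_congr (Subgroup.subgroupOfEquivOfLe hle).toEquiv, ← hc] at h1
    exact Nat.eq_of_mul_eq_mul_left Nat.card_pos h1
  have hmin : (S.subgroupOf H).index = (Nat.card H).minFac := by
    obtain ⟨n, hn⟩ := hH.exists_card_eq
    rcases Nat.eq_zero_or_pos n with rfl | hn0
    · rw [hn] at hc
      rw [pow_zero] at hc
      exact absurd (Nat.eq_one_of_mul_eq_one_left hc) hp.out.one_lt.ne'
    · rw [hi, hn, Nat.Prime.pow_minFac hp.out hn0.ne']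
  have := (Subgroup.normal_of_index_eq_minFac_card hmin).conj_mem ⟨s, hle hs⟩
    (Subgroup.mem_subgroupOf.2 hs) ⟨g, hg⟩
  exact Subgroup.mem_subgroupOf.1 this

/-- The class stabiliser in a Sylow subgroup. -/
theorem sylow_classStab [IsPretransitive A X] (hX : Nat.card X = p ^ 2) (h : IsBlockRel A p r)
    (P : Sylow p A) (b : X) :
    orbit ↥((P : Subgroup A) ⊓ classStab h b) b = relClass r b ∧
    Nat.card ↥((P : Subgroup A) ⊓ classStab h b) =
      p * Nat.card ↥((P : Subgroup A) ⊓ stabilizer A b) ∧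
    Nat.card ↥((P : Subgroup A) ⊓ classStab h b) * p = Nat.card (P : Subgroup A) ∧
    (P : Subgroup A) ⊓ classStab h b ≤ kerRel h := by
  set S := (P : Subgroup A) ⊓ classStab h b with hS
  have h1 : orbit S b = relClass r b := by
    ext y
    constructor
    · rintro ⟨s, rfl⟩; exact s.2.2
    · intro hy
      obtain ⟨g, hg, hgy⟩ := sylow_transitive hX P b y
      exact ⟨⟨g, hg, show r b (g • b) by rw [hgy]; exact hy⟩, hgy⟩
  have h2 : S ⊓ stabilizer A b = (P : Subgroup A) ⊓ stabilizer A b := by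
    ext g
    constructor
    · rintro ⟨⟨hg, -⟩, hb⟩; exact ⟨hg, hb⟩
    · rintro ⟨hg, hb⟩
      exact ⟨⟨hg, show r b (g • b) by rw [mem_stabilizer_iff.1 hb]; exact h.refl b⟩, hb⟩
  have h3 : Nat.card S = p * Nat.card ↥((P : Subgroup A) ⊓ stabilizer A b) := by
    rw [← ncard_orbit_mul S b, h2, h1, relClass, h.card]
  have h4 : Nat.card S * p = Nat.card (P : Subgroup A) := by
    rw [h3, ← ncard_orbit_mul (P : Subgroup A) b]
    have : orbit (P : Subgroup A) b = Set.univ := Set.eq_univ_of_forall fun y => by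
      obtain ⟨g, hg, hgy⟩ := sylow_transitive hX P b y
      exact ⟨⟨g, hg⟩, hgy⟩
    rw [this, Set.ncard_univ, hX]; ring
  refine ⟨h1, h3, h4, fun s hs x => ?_⟩
  obtain ⟨g, hg, rfl⟩ := sylow_transitive hX P b x
  have := (conj_mem_of_card_mul P.2 inf_le_left h4 (inv_mem hg) hs).2
  rw [inv_inv] at this
  have h5 := h.smul g (show r b ((g⁻¹ * s * g) • b) from this)
  rwa [smul_inv_conj, smul_inv_smul] at h5

theorem class_subset_fixSet [IsPretransitive A X] (hX : Nat.card X = p ^ 2)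
    (h : IsBlockRel A p r) (P : Sylow p A) (b : X) :
    relClass r b ⊆ fixSet X ((P : Subgroup A) ⊓ stabilizer A b) := by
  obtain ⟨h1, h3, -, -⟩ := sylow_classStab hX h P b
  intro y hy q hq
  rw [← h1] at hy
  obtain ⟨⟨s, hs⟩, rfl⟩ := hy
  have hle : (P : Subgroup A) ⊓ stabilizer A b ≤ (P : Subgroup A) ⊓ classStab h b :=
    fun g hg => ⟨hg.1, show r b (g • b) by rw [mem_stabilizer_iff.1 hg.2]; exact h.refl b⟩
  have := conj_mem_of_card_mul (P.2.to_le inf_le_left) hle (by rw [h3, mul_comm])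
    (inv_mem hs) hq
  rw [inv_inv] at this
  have h5 := mem_stabilizer_iff.1 this.2
  rw [smul_inv_conj, inv_smul_eq_iff] at h5
  exact h5

/-- The fixed points of a nontrivial point stabiliser in a Sylow subgroup form the class. -/
theorem fixSet_eq_class [IsPretransitive A X] [FaithfulSMul A X] (hX : Nat.card X = p ^ 2)
    (h : IsBlockRel A p r) (P : Sylow p A) (b : X)
    (hne : (P : Subgroup A) ⊓ stabilizer A b ≠ ⊥) :
    fixSet X ((P : Subgroup A) ⊓ stabilizer A b) = relClass r b := by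
  set T := (P : Subgroup A) ⊓ stabilizer A b with hT
  obtain ⟨-, h3, h4, -⟩ := sylow_classStab hX h P b
  have hcardT : ∀ x : X, Nat.card ↥((P : Subgroup A) ⊓ stabilizer A x) = Nat.card T := by
    intro x
    obtain ⟨-, h3x, h4x, -⟩ := sylow_classStab hX h P x
    have h34 := h4
    rw [← h4x, h3x, h3] at h34
    exact (Nat.eq_of_mul_eq_mul_left hp.out.pos
      (Nat.eq_of_mul_eq_mul_right hp.out.pos h34)).symm
  have hstab : ∀ x ∈ fixSet X T, (P : Subgroup A) ⊓ stabilizer A x = T := fun x hx =>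
    (Subgroup.eq_of_le_of_card_ge
      (show T ≤ (P : Subgroup A) ⊓ stabilizer A x from fun q hq => ⟨hq.1, hx q hq⟩)
      (hcardT x).le).symm
  refine Set.Subset.antisymm ?_ (class_subset_fixSet hX h P b)
  intro w hw
  by_contra hwr
  obtain ⟨g, hgP, hgw⟩ := sylow_transitive hX P b w
  have hgT : ∀ q ∈ T, g⁻¹ * q * g ∈ T := fun q hq => by
    refine ⟨(P : Subgroup A).mul_mem ((P : Subgroup A).mul_mem ((P : Subgroup A).inv_mem hgP) hq.1) hgP,
      mem_stabilizer_iff.2 ?_⟩
    rw [smul_inv_conj, inv_smul_eq_iff, hgw, hw q hq]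
  have hgF : g • fixSet X T ⊆ fixSet X T := by
    rintro _ ⟨x, hx, rfl⟩ q hq
    have := hx _ (hgT q hq)
    rwa [smul_inv_conj, inv_smul_eq_iff] at this
  have hSF : ∀ s ∈ (P : Subgroup A) ⊓ classStab h b, s • fixSet X T ⊆ fixSet X T := by
    rintro s hs _ ⟨x, hx, rfl⟩
    have h6 := class_subset_fixSet hX h P x ((sylow_classStab hX h P b).2.2.2 hs x)
    rw [hstab x hx] at h6
    exact h6
  have hM : ∀ q : A, q • fixSet X T ⊆ fixSet X T → q ∈ stabilizer A (fixSet X T) := fun q hq =>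
    mem_stabilizer_iff.2 (Set.eq_of_subset_of_ncard_le hq (by rw [Set.ncard_smul_set]))
  set M := (P : Subgroup A) ⊓ stabilizer A (fixSet X T) with hMdef
  have hle : (P : Subgroup A) ⊓ classStab h b ≤ M := fun s hs => ⟨hs.1, hM s (hSF s hs)⟩
  have hlt : Nat.card ↥((P : Subgroup A) ⊓ classStab h b) < Nat.card M := by
    by_contra hge
    have := Subgroup.eq_of_le_of_card_ge hle (not_lt.1 hge)
    have hg' : g ∈ M := ⟨hgP, hM g hgF⟩
    rw [← this] at hg'
    exact hwr (hgw ▸ hg'.2)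
  obtain ⟨c, hc⟩ := Subgroup.card_dvd_of_le hle
  obtain ⟨d, hd⟩ := Subgroup.card_dvd_of_le (inf_le_left : M ≤ (P : Subgroup A))
  have hS0 : 0 < Nat.card ↥((P : Subgroup A) ⊓ classStab h b) := Nat.card_pos
  rw [← h4, hc, mul_assoc] at hd
  have hcd : p = c * d := Nat.eq_of_mul_eq_mul_left hS0 hd
  have hc1 : c ≠ 1 := by rintro rfl; rw [mul_one] at hc; omega
  have hd1 : d = 1 := by
    rcases hp.out.eq_one_or_self_of_dvd c ⟨d, hcd⟩ with h7 | h7
    · exact absurd h7 hc1
    · subst h7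
      exact (Nat.mul_eq_left hp.out.ne_zero).1 hcd.symm
  have hMP : M = (P : Subgroup A) := Subgroup.eq_of_le_of_card_ge inf_le_left (by
    rw [← h4, hc, show c = p by rw [hcd, hd1, mul_one]])
  refine hne ((Subgroup.eq_bot_iff_forall _).2 fun q hq => ?_)
  refine FaithfulSMul.eq_of_smul_eq_smul (α := X) fun x => ?_
  rw [one_smul]
  obtain ⟨k, hk, rfl⟩ := sylow_transitive hX P b x
  have hkM : k • fixSet X T = fixSet X T := by rw [← hMP] at hk; exact mem_stabilizer_iff.1 hk.2
  have hbF : b ∈ fixSet X T := fun q hq => mem_stabilizer_iff.1 hq.2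
  have := Set.smul_mem_smul_set (a := k) hbF
  rw [hkM] at this
  exact this q hq

/-- A `p`-subgroup fixing `b` with exactly `p` fixed points fixes exactly the class of `b`. -/
theorem pgroup_fixSet_eq_class [IsPretransitive A X] [FaithfulSMul A X]
    (hX : Nat.card X = p ^ 2) (h : IsBlockRel A p r) {Q : Subgroup A} (hQ : IsPGroup p Q)
    {b : X} (hb : ∀ q ∈ Q, q • b = b) (hc : (fixSet X Q).ncard = p) :
    fixSet X Q = relClass r b := by
  obtain ⟨P, hP⟩ := hQ.exists_le_sylow
  have hQT : Q ≤ (P : Subgroup A) ⊓ stabilizer A b := fun q hq => ⟨hP hq, hb q hq⟩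
  have hne : (P : Subgroup A) ⊓ stabilizer A b ≠ ⊥ := by
    intro h0
    rw [h0, le_bot_iff] at hQT
    subst hQT
    have : fixSet X (⊥ : Subgroup A) = Set.univ := Set.eq_univ_of_forall fun x q hq => by
      rw [Subgroup.mem_bot.1 hq, one_smul]
    rw [this, Set.ncard_univ, hX] at hc
    nlinarith [hp.out.two_le]
  refine (Set.eq_of_subset_of_ncard_le ?_ ?_).symm
  · rw [← fixSet_eq_class hX h P b hne]
    exact fun x hx q hq => hx q (hQT hq)
  · rw [hc, relClass, h.card]

theorem exists_pgroup_fixSet [IsPretransitive A X] [FaithfulSMul A X]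
    (hX : Nat.card X = p ^ 2) (h : IsBlockRel A p r) {b : X}
    (hb : p ∣ Nat.card (stabilizer A b)) :
    ∃ Q : Subgroup A, IsPGroup p Q ∧ (∀ q ∈ Q, q • b = b) ∧ (fixSet X Q).ncard = p := by
  obtain ⟨⟨g, hg⟩, hgo⟩ := exists_prime_orderOf_dvd_card' p hb
  rw [Subgroup.orderOf_mk] at hgo
  have hZ : IsPGroup p (Subgroup.zpowers g) :=
    IsPGroup.of_card (n := 1) (by rw [Nat.card_zpowers, hgo, pow_one])
  obtain ⟨P, hP⟩ := hZ.exists_le_sylow
  refine ⟨(P : Subgroup A) ⊓ stabilizer A b, P.2.to_le inf_le_left, fun q hq => hq.2, ?_⟩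
  rw [fixSet_eq_class hX h P b, relClass, h.card]
  intro h0
  have : g ∈ (P : Subgroup A) ⊓ stabilizer A b := ⟨hP (Subgroup.mem_zpowers g), hg⟩
  rw [h0, Subgroup.mem_bot] at this
  rw [this, orderOf_one] at hgo
  exact hp.out.one_lt.ne hgo

/-- A cycle of a block relation: an element of order `p` in the kernel, transitive on each
class, lying in a Sylow subgroup `P` of order `p ^ 2` whose class stabilisers it generates. -/
structure IsClassCycle (h : IsBlockRel A p r) (P : Sylow p A) (z : A) : Prop where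
  order : orderOf z = p
  memP : z ∈ (P : Subgroup A)
  memK : z ∈ kerRel h
  trans : ∀ {x y}, r x y → ∃ n : ℕ, z ^ n • x = y
  stab : ∀ b, (P : Subgroup A) ⊓ classStab h b = Subgroup.zpowers z
  card : Nat.card (P : Subgroup A) = p ^ 2

theorem exists_isClassCycle [IsPretransitive A X] (hX : Nat.card X = p ^ 2)
    (h : IsBlockRel A p r) {b : X} (hb : ¬ p ∣ Nat.card (stabilizer A b)) (P : Sylow p A) :
    ∃ z, IsClassCycle h P z := by
  have hreg : ∀ x : X, Nat.card ↥((P : Subgroup A) ⊓ stabilizer A x) = 1 := by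
    intro x
    obtain ⟨n, hn⟩ := (P.2.to_le (inf_le_left :
      (P : Subgroup A) ⊓ stabilizer A x ≤ P)).exists_card_eq
    rcases Nat.eq_zero_or_pos n with rfl | hn0
    · simpa using hn
    · exact absurd ((dvd_pow_self p hn0.ne').trans
        (hn ▸ Subgroup.card_dvd_of_le inf_le_right)) (not_dvd_all hX hb x)
  obtain ⟨h1, h3, h4, h5⟩ := sylow_classStab hX h P b
  rw [hreg b, mul_one] at h3
  obtain ⟨⟨z, hz⟩, hzo⟩ := exists_prime_orderOf_dvd_card'
    (G := ↥((P : Subgroup A) ⊓ classStab h b)) p (by rw [h3])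
  rw [Subgroup.orderOf_mk] at hzo
  have hstab : ∀ x, (P : Subgroup A) ⊓ classStab h x = Subgroup.zpowers z := by
    intro x
    obtain ⟨-, h3', -, -⟩ := sylow_classStab hX h P x
    rw [hreg x, mul_one] at h3'
    refine (Subgroup.eq_of_le_of_card_ge ?_ ?_).symm
    · rw [Subgroup.zpowers_le]; exact ⟨hz.1, h5 hz x⟩
    · rw [h3', Nat.card_zpowers, hzo]
  refine ⟨z, hzo, hz.1, h5 hz, @fun x y hxy => ?_, hstab, ?_⟩
  · have h6 : y ∈ orbit ↥((P : Subgroup A) ⊓ classStab h x) x := by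
      rw [(sylow_classStab hX h P x).1]; exact hxy
    obtain ⟨⟨g, hg⟩, hgy⟩ := h6
    rw [hstab x] at hg
    obtain ⟨n, hn⟩ := (mem_powers_iff_mem_zpowers (x := z)).2 hg
    exact ⟨n, by simp only at hn; rw [hn]; exact hgy⟩
  · rw [← h4, h3, sq]

theorem IsClassCycle.eq_one_of_fix [IsPretransitive A X] (hX : Nat.card X = p ^ 2)
    {h : IsBlockRel A p r} {P : Sylow p A} {z : A} (hz : IsClassCycle h P z) {b : X}
    (hb : ¬ p ∣ Nat.card (stabilizer A b)) {n : ℕ} {x : X} (hfix : z ^ n • x = x) :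
    z ^ n = 1 := by
  have h1 : orderOf (z ^ n) ∣ p := hz.order ▸ orderOf_pow_dvd n
  rcases hp.out.eq_one_or_self_of_dvd _ h1 with h2 | h2
  · exact orderOf_eq_one_iff.1 h2
  · exact absurd (h2 ▸ Subgroup.orderOf_dvd_natCard (stabilizer A x) hfix)
      (not_dvd_all hX hb x)

theorem IsClassCycle.pow_mem_generates {h : IsBlockRel A p r} {P : Sylow p A} {z : A}
    (hz : IsClassCycle h P z) {n : ℕ} (hn : z ^ n ≠ 1) : ∃ t : ℕ, (z ^ n) ^ t = z := by
  refine exists_pow_eq_self_of_coprime ?_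
  rw [hz.order, Nat.coprime_comm, hp.out.coprime_iff_not_dvd]
  intro h1
  exact hn (orderOf_dvd_iff_pow_eq_one.1 (hz.order.symm ▸ h1))

end CfsgLib.TwoTransSqSucc
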