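/-
An automorphism of a transitive group of prime degree which centralises the cycle `z` and is
intertwined with the identity by a proper circulant relation has a power, of exponent prime to
`p`, which is conjugation by a power of `z`.
The proof takes place in the field of `p`-th roots of unity, seen as the augmentation module
of the permutation representation.
-/
import Mathlib

set_option autoImplicit false

namespace CfsgLib.TwoTransSqSucc

open Finset Module

variable {p : ℕ} [Fact p.Prime]

variable (L : Type*) [Field L] [Algebra ℚ L] [IsCyclotomicExtension {p} ℚ L]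

/-- The power of the root of unity attached to an element of `ZMod p`. -/
noncomputable def rootPow (i : ZMod p) : L :=
  IsCyclotomicExtension.zeta p ℚ (L) ^ i.val

theorem zeta_isPrim :
    IsPrimitiveRoot (IsCyclotomicExtension.zeta p ℚ (L)) p :=
  IsCyclotomicExtension.zeta_spec p ℚ (L)

theorem rootPow_natCast (n : ℕ) :
    rootPow L ((n : ℕ) : ZMod p) = IsCyclotomicExtension.zeta p ℚ (L) ^ n := by
  rw [rootPow, ZMod.val_natCast]
  exact (pow_eq_pow_mod n (zeta_isPrim L).pow_eq_one).symm

theorem rootPow_zero : rootPow L (0 : ZMod p) = 1 := by rw [rootPow, ZMod.val_zero, pow_zero]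

theorem rootPow_add (i j : ZMod p) : rootPow L (i + j) = rootPow L i * rootPow L j := by
  rw [rootPow, rootPow, rootPow, ← pow_add, ZMod.val_add]
  exact (pow_eq_pow_mod _ (zeta_isPrim L).pow_eq_one).symm

theorem rootPow_inj {i j : ZMod p} (h : rootPow L i = rootPow L j) : i = j :=
  ZMod.val_injective p ((zeta_isPrim L).pow_inj i.val_lt j.val_lt h)

theorem rootPow_ne_zero (i : ZMod p) : rootPow L i ≠ 0 :=
  pow_ne_zero _ ((zeta_isPrim L).ne_zero (NeZero.ne p))

theorem finrank_cyclo : finrank ℚ (L) = p - 1 := by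
  rw [IsCyclotomicExtension.finrank (n := p) (K := ℚ) (L)
    (Polynomial.cyclotomic.irreducible_rat (Fact.out : p.Prime).pos),
    Nat.totient_prime (Fact.out : p.Prime)]

theorem sum_zmod {M : Type*} [AddCommMonoid M] (F : ZMod p → M) :
    ∑ i : ZMod p, F i = ∑ k ∈ range p, F ((k : ℕ) : ZMod p) := by
  refine (Finset.sum_nbij (fun k : ℕ => ((k : ℕ) : ZMod p)) ?_ ?_ ?_ ?_).symm
  · intro k _; exact mem_univ _
  · intro a ha b hb h
    have ha' := Finset.mem_range.1 (Finset.mem_coe.1 ha)
    have hb' := Finset.mem_range.1 (Finset.mem_coe.1 hb)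
    have := congrArg ZMod.val h
    simpa [ZMod.val_natCast, Nat.mod_eq_of_lt ha', Nat.mod_eq_of_lt hb'] using this
  · intro i _
    exact ⟨i.val, Finset.mem_coe.2 (Finset.mem_range.2 i.val_lt), ZMod.natCast_zmod_val i⟩
  · intro k _; rfl

theorem sum_rootPow : ∑ i : ZMod p, rootPow L i = 0 := by
  rw [sum_zmod]
  simp only [rootPow_natCast L]
  exact (zeta_isPrim L).geom_sum_eq_zero (Fact.out : p.Prime).one_lt

/-- The only rational linear relations between the `rootPow L i` are the constant ones. -/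
theorem eq_const_of_sum_eq_zero {f : ZMod p → ℚ} (h : ∑ i, f i • rootPow L i = 0)
    (i : ZMod p) : f i = f ((p - 1 : ℕ) : ZMod p) := by
  set c := f ((p - 1 : ℕ) : ZMod p) with hc
  have h1 : ∑ k ∈ range p, (f ((k : ℕ) : ZMod p) - c) •
      IsCyclotomicExtension.zeta p ℚ (L) ^ k = 0 := by
    rw [show ∑ k ∈ range p, (f ((k : ℕ) : ZMod p) - c) •
        IsCyclotomicExtension.zeta p ℚ (L) ^ k =
        ∑ i : ZMod p, (f i - c) • rootPow L i by
      rw [sum_zmod]; simp only [rootPow_natCast L]]
    simp only [sub_smul, Finset.sum_sub_distrib, h]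
    rw [zero_sub, neg_eq_zero]
    simp only [Algebra.smul_def, ← Finset.mul_sum, sum_rootPow L, mul_zero]
  have hp1 : p = (p - 1) + 1 := by have := (Fact.out : p.Prime).pos; omega
  rw [show range p = range ((p - 1) + 1) by rw [← hp1], Finset.sum_range_succ, ← hc, sub_self,
    zero_smul, add_zero] at h1
  set pb := (zeta_isPrim (p := p) L).powerBasis ℚ with hpb
  have hgen : pb.gen = IsCyclotomicExtension.zeta p ℚ (L) :=
    IsPrimitiveRoot.powerBasis_gen _ _
  have hdim : pb.dim = p - 1 := by rw [← pb.finrank, finrank_cyclo (p := p) L]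
  have hz : ∑ k : Fin pb.dim, (f ((k : ℕ) : ZMod p) - c) • pb.basis k = 0 := by
    simp only [PowerBasis.coe_basis, hgen]
    rw [Fin.sum_univ_eq_sum_range
      (fun k => (f ((k : ℕ) : ZMod p) - c) •
        IsCyclotomicExtension.zeta p ℚ (L) ^ k), hdim]
    exact h1
  have hli := Fintype.linearIndependent_iff.1 pb.basis.linearIndependent _ hz
  by_cases hlast : i.val = p - 1
  · rw [hc, ← hlast, ZMod.natCast_zmod_val]
  · have hlt : i.val < pb.dim := by have := i.val_lt; omega
    have := hli ⟨i.val, hlt⟩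
    simp only [ZMod.natCast_zmod_val, sub_eq_zero] at this
    exact this

theorem linearMap_ext_rootPow {M : Type*} [AddCommGroup M] [Module ℚ M]
    {f g : L →ₗ[ℚ] M} (h : ∀ i : ZMod p, f (rootPow L i) = g (rootPow L i)) : f = g := by
  refine ((zeta_isPrim (p := p) L).powerBasis ℚ).basis.ext fun k => ?_
  rw [PowerBasis.coe_basis, IsPrimitiveRoot.powerBasis_gen]
  simpa [rootPow_natCast L] using h ((k : ℕ) : ZMod p)

/-- The linear map of the cyclotomic field induced by a permutation of `ZMod p`. -/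
noncomputable def permLin (σ : Equiv.Perm (ZMod p)) :
    L →ₗ[ℚ] L :=
  ((zeta_isPrim (p := p) L).powerBasis ℚ).basis.constr ℚ
    fun k => rootPow L (σ ((k : ℕ) : ZMod p))

theorem permLin_rootPow_lt (σ : Equiv.Perm (ZMod p)) {k : ℕ} (hk : k < p - 1) :
    permLin L σ (rootPow L ((k : ℕ) : ZMod p)) = rootPow L (σ ((k : ℕ) : ZMod p)) := by
  set pb := (zeta_isPrim (p := p) L).powerBasis ℚ with hpb
  have hdim : pb.dim = p - 1 := by rw [← pb.finrank, finrank_cyclo (p := p) L]
  have h1 : rootPow L ((k : ℕ) : ZMod p) = pb.basis ⟨k, by omega⟩ := by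
    rw [PowerBasis.coe_basis, IsPrimitiveRoot.powerBasis_gen, rootPow_natCast L]
  rw [h1, permLin, Basis.constr_basis]

theorem permLin_rootPow (σ : Equiv.Perm (ZMod p)) (i : ZMod p) :
    permLin L σ (rootPow L i) = rootPow L (σ i) := by
  by_cases hlast : i.val = p - 1
  · have hp1 : p = (p - 1) + 1 := by have := (Fact.out : p.Prime).pos; omega
    have e0 : ∑ k ∈ range p, rootPow L ((k : ℕ) : ZMod p) = 0 := by
      rw [← sum_zmod]; exact (sum_rootPow L)
    have e1 : ∑ k ∈ range p, rootPow L (σ ((k : ℕ) : ZMod p)) = 0 := by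
      rw [← sum_zmod (fun j => rootPow L (σ j)), Equiv.sum_comp σ (rootPow L)]; exact (sum_rootPow L)
    rw [show range p = range ((p - 1) + 1) by rw [← hp1], Finset.sum_range_succ] at e0 e1
    rw [← hlast, ZMod.natCast_zmod_val] at e0 e1
    have e2 := congrArg (permLin L σ) e0
    rw [map_add, map_zero, map_sum, Finset.sum_congr rfl fun k hk =>
      permLin_rootPow_lt L σ (k := k) (by have := Finset.mem_range.1 hk; omega)] at e2
    exact add_left_cancel (e2.trans e1.symm)
  · have := permLin_rootPow_lt L σ (k := i.val) (by have := i.val_lt; omega)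
    rwa [ZMod.natCast_zmod_val] at this

/-- **Intertwiner lemma.** -/
theorem exists_pow_conj_eq_aux (L : Type*) [Field L] [Algebra ℚ L]
    [IsCyclotomicExtension {p} ℚ L] {K : Type*} [Group K] (π : K →* Equiv.Perm (ZMod p))
    (hπ : Function.Injective π) (z : K) (hz : ∀ i, π z i = i + 1)
    (hzc : ∃ g, ¬ Commute z g) (θ : MulAut K) (s : ℕ)
    (hθp : θ ^ p = MulAut.conj (z ^ s)) (D : Finset (ZMod p)) (hD0 : D.Nonempty)
    (hD1 : D ≠ univ) (hinv : ∀ (g : K) (i j : ZMod p), j - i ∈ D → π (θ g) j - π g i ∈ D) :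
    ∃ m k : ℕ, ¬ p ∣ m ∧ θ ^ m = MulAut.conj (z ^ k) := by
  classical
  haveI : CharZero L := charZero_of_injective_algebraMap (algebraMap ℚ L).injective
  haveI : FiniteDimensional ℚ L := IsCyclotomicExtension.finiteDimensional {p} ℚ L
  let ρ : K → L →ₗ[ℚ] L := fun g => permLin L (π g)
  have hρ : ∀ g i, ρ g (rootPow L i) = rootPow L (π g i) := fun g i => permLin_rootPow L _ i
  have hρmul : ∀ g h x, ρ (g * h) x = ρ g (ρ h x) := by
    intro g h x
    exact LinearMap.congr_fun
      (linearMap_ext_rootPow L (p := p) (f := ρ (g * h)) (g := (ρ g).comp (ρ h)) fun i => by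
        simp only [LinearMap.comp_apply, hρ, map_mul, Equiv.Perm.mul_apply]) x
  have hπz : ∀ (n : ℕ) i, π (z ^ n) i = i + (n : ZMod p) := by
    intro n
    induction n with
    | zero => simp
    | succ n ih => intro i; rw [pow_succ', map_mul, Equiv.Perm.mul_apply, ih, hz]; push_cast; ring
  have hρz : ∀ (n : ℕ) x, ρ (z ^ n) x = rootPow L ((n : ℕ) : ZMod p) * x := by
    intro n x
    exact LinearMap.congr_fun
      (linearMap_ext_rootPow L (p := p) (f := ρ (z ^ n))
        (g := LinearMap.mulLeft ℚ (rootPow L ((n : ℕ) : ZMod p))) fun i => by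
        rw [hρ, hπz, LinearMap.mulLeft_apply, add_comm, rootPow_add L]) x
  -- the intertwiner
  set α : L := ∑ j ∈ D, rootPow L j with hα
  have hα0 : α ≠ 0 := by
    intro h0
    have h1 : ∑ i : ZMod p, (if i ∈ D then (1 : ℚ) else 0) • rootPow L i = 0 := by
      simp only [ite_smul, one_smul, zero_smul, Finset.sum_ite_mem, Finset.univ_inter]
      exact h0
    obtain ⟨a, ha⟩ := hD0
    obtain ⟨b, hb⟩ : ∃ b, b ∉ D := by
      by_contra hh
      push_neg at hh
      exact hD1 (Finset.eq_univ_of_forall hh)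
    have hab := (eq_const_of_sum_eq_zero L h1 a).trans (eq_const_of_sum_eq_zero L h1 b).symm
    simp [ha, hb] at hab
  have hT : ∀ g x, α * ρ g x = ρ (θ g) (α * x) := by
    intro g x
    refine LinearMap.congr_fun
      (linearMap_ext_rootPow L (p := p) (f := (LinearMap.mulLeft ℚ α).comp (ρ g))
        (g := (ρ (θ g)).comp (LinearMap.mulLeft ℚ α)) fun i => ?_) x
    simp only [LinearMap.comp_apply, LinearMap.mulLeft_apply, hρ, hα, Finset.sum_mul, map_sum,
      ← rootPow_add L]
    symm
    have himg : D.image (fun j => π (θ g) (j + i) - π g i) = D := by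
      refine Finset.eq_of_subset_of_card_le ?_ ?_
      · intro w hw
        obtain ⟨j, hj, rfl⟩ := Finset.mem_image.1 hw
        exact hinv g i (j + i) (by rwa [add_sub_cancel_right])
      · rw [Finset.card_image_of_injective]
        intro a b hab
        exact add_right_cancel ((π (θ g)).injective (sub_left_injective hab))
    conv_rhs => rw [← himg]
    rw [Finset.sum_image (fun a _ b _ hab =>
      add_right_cancel ((π (θ g)).injective (sub_left_injective hab)))]
    refine Finset.sum_congr rfl fun j _ => ?_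
    rw [sub_add_cancel]
  have hTn : ∀ (n : ℕ) g x, α ^ n * ρ g x = ρ ((θ ^ n) g) (α ^ n * x) := by
    intro n
    induction n with
    | zero => intro g x; simp
    | succ n ih =>
      intro g x
      rw [pow_succ', mul_assoc, ih, hT, pow_succ' θ n, MulAut.mul_apply, mul_assoc]
  -- the field of intertwiners
  let F : IntermediateField ℚ (L) :=
    { carrier := {γ | ∀ g x, ρ g (γ * x) = γ * ρ g x}
      mul_mem' := fun {a b} ha hb g x => by rw [mul_assoc, ha, hb, mul_assoc]
      one_mem' := fun g x => by rw [one_mul, one_mul]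
      add_mem' := fun {a b} ha hb g x => by rw [add_mul, map_add, ha, hb, add_mul]
      zero_mem' := fun g x => by rw [zero_mul, zero_mul, map_zero]
      algebraMap_mem' := fun q g x => by rw [← Algebra.smul_def, map_smul, Algebra.smul_def]
      inv_mem' := fun γ hγ g x => by
        rcases eq_or_ne γ 0 with rfl | h0
        · simp
        · have := hγ g (γ⁻¹ * x)
          rw [← mul_assoc, mul_inv_cancel₀ h0, one_mul] at this
          rw [this, ← mul_assoc, inv_mul_cancel₀ h0, one_mul] }
  haveI : Module.Finite F L := Module.Finite.of_restrictScalars_finite ℚ F L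
  have hF : ∀ γ, γ ∈ F ↔ ∀ g x, ρ g (γ * x) = γ * ρ g x := fun _ => Iff.rfl
  set γ0 : L := (rootPow L ((s : ℕ) : ZMod p))⁻¹ * α ^ p with hγ0
  have hs0 : rootPow L ((s : ℕ) : ZMod p) ≠ 0 := rootPow_ne_zero L _
  have hγ0F : γ0 ∈ F := by
    rw [hF]
    intro g x
    have h1 := hTn p g x
    rw [hθp, MulAut.conj_apply] at h1
    have h2 : ∀ y, ρ ((z ^ s)⁻¹) y = (rootPow L ((s : ℕ) : ZMod p))⁻¹ * y := by
      intro y
      have := hρmul ((z ^ s)⁻¹) (z ^ s) ((rootPow L ((s : ℕ) : ZMod p))⁻¹ * y)
      rw [inv_mul_cancel, hρz, mul_inv_cancel_left₀ hs0] at this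
      rw [← this, ← pow_zero z, hρz, Nat.cast_zero, rootPow_zero L, one_mul]
    rw [hρmul, hρmul, hρz, h2] at h1
    rw [hγ0, mul_assoc, mul_assoc, h1, inv_mul_cancel_left₀ hs0]
  have hnz : rootPow L (1 : ZMod p) ∉ F := by
    rw [hF]
    intro h
    obtain ⟨g, hg⟩ := hzc
    refine hg (hπ (Equiv.ext fun i => rootPow_inj L ?_))
    rw [map_mul, map_mul, Equiv.Perm.mul_apply, Equiv.Perm.mul_apply, hz, hz, add_comm i,
      add_comm (π g i), rootPow_add L, ← hρ g i, ← h g (rootPow L i), ← rootPow_add L, hρ]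
  set m := finrank F (L) with hm
  have hmul : finrank ℚ F * m = p - 1 := by rw [hm, Module.finrank_mul_finrank, finrank_cyclo (p := p) L]
  have hmp : ¬ p ∣ m := by
    intro h
    have h1 : p ∣ p - 1 := h.trans ⟨finrank ℚ F, by rw [← hmul, mul_comm]⟩
    have h2 := (Fact.out : p.Prime).two_le
    have := Nat.le_of_dvd (by omega) h1
    omega
  set Nα := Algebra.norm F α with hNα
  have hNα0 : (Nα : L) ≠ 0 := by
    simpa [hNα] using (Algebra.norm_ne_zero_iff (R := F)).2 hα0
  -- the norm of the root of unity is one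
  have hu : (Algebra.norm F (rootPow L ((s : ℕ) : ZMod p)) : L) = 1 := by
    set u : L :=
      (Algebra.norm F (rootPow L ((s : ℕ) : ZMod p)) : L) with hudef
    have hup : u ^ p = 1 := by
      rw [hudef, ← SubmonoidClass.coe_pow, ← map_pow, rootPow, ← pow_mul, mul_comm, pow_mul,
        (zeta_isPrim L).pow_eq_one, one_pow, map_one, OneMemClass.coe_one]
    obtain ⟨k, hk, hku⟩ := (zeta_isPrim L).eq_pow_of_pow_eq_one hup
    rcases Nat.eq_zero_or_pos k with rfl | hk0
    · simpa using hku.symm
    · exfalso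
      apply hnz
      have hkF : rootPow L ((k : ℕ) : ZMod p) ∈ F := by
        rw [rootPow_natCast L, hku, hudef]; exact SetLike.coe_mem _
      have hkne : ((k : ℕ) : ZMod p) ≠ 0 := by
        rw [Ne, ZMod.natCast_eq_zero_iff]
        exact fun h => absurd (Nat.le_of_dvd hk0 h) (by omega)
      have h2 : ∀ n : ℕ, rootPow L ((n : ZMod p) * ((k : ℕ) : ZMod p)) ∈ F := by
        intro n
        induction n with
        | zero => rw [Nat.cast_zero, zero_mul, rootPow_zero L]; exact one_mem F
        | succ n ih => rw [Nat.cast_succ, add_mul, one_mul, rootPow_add L]; exact mul_mem ih hkF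
      have := h2 (((k : ℕ) : ZMod p)⁻¹).val
      rwa [ZMod.natCast_zmod_val, inv_mul_cancel₀ hkne] at this
  set β := α ^ m * (Nα : L)⁻¹ with hβ
  have hβp : β ^ p = rootPow L ((s : ℕ) : ZMod p) ^ m := by
    have h1 : Algebra.norm F γ0 = (⟨γ0, hγ0F⟩ : F) ^ m :=
      Algebra.norm_algebraMap (S := L) (⟨γ0, hγ0F⟩ : F)
    have h2 : rootPow L ((s : ℕ) : ZMod p) * γ0 = α ^ p := by
      rw [hγ0, mul_inv_cancel_left₀ hs0]
    have h3 := congrArg (fun w => ((Algebra.norm F w : F) : L)) h2
    simp only [map_mul, map_pow, MulMemClass.coe_mul, SubmonoidClass.coe_pow, hu, one_mul, h1,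
      ← hNα] at h3
    rw [hγ0, mul_pow, inv_pow, ← pow_mul, mul_comm p m] at h3
    rw [hβ, mul_pow, ← pow_mul, inv_pow]
    have hsm : rootPow L ((s : ℕ) : ZMod p) ^ m ≠ 0 := pow_ne_zero _ hs0
    rw [← h3]
    field_simp
  obtain ⟨k, hk⟩ : ∃ k : ℕ, rootPow L ((k : ℕ) : ZMod p) = β := by
    have hpow : β ^ (p * p) = 1 := by
      rw [pow_mul, hβp, ← pow_mul, rootPow, ← pow_mul, ← mul_assoc, mul_comm, pow_mul,
        (zeta_isPrim L).pow_eq_one, one_pow]
    have hp2 : β ^ p = 1 := by
      by_contra hne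
      have hprim : IsPrimitiveRoot β (p * p) := by
        rw [show p * p = p ^ (1 + 1) by ring] at hpow ⊢
        rw [IsPrimitiveRoot.iff_orderOf]
        exact orderOf_eq_prime_pow (by rwa [pow_one]) hpow
      have hle : (p * p).totient ≤ p - 1 := by
        rw [← finrank_cyclo (p := p) L]
        have := hprim.lcm_totient_le_finrank (K := ℚ) hprim
          (Polynomial.cyclotomic.irreducible_rat (Nat.pos_of_ne_zero
            (Nat.lcm_ne_zero (Nat.mul_ne_zero (NeZero.ne p) (NeZero.ne p))
              (Nat.mul_ne_zero (NeZero.ne p) (NeZero.ne p)))))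
        rwa [Nat.lcm_self] at this
      rw [show p * p = p ^ 2 by ring, Nat.totient_prime_pow (Fact.out : p.Prime) (by omega)] at hle
      have h2 := (Fact.out : p.Prime).two_le
      have : 2 * (p - 1) ≤ p ^ (2 - 1) * (p - 1) := Nat.mul_le_mul_right _ (by simpa using h2)
      omega
    obtain ⟨k, -, hku⟩ := (zeta_isPrim L).eq_pow_of_pow_eq_one hp2
    exact ⟨k, by rw [rootPow_natCast L, hku]⟩
  refine ⟨m, k, hmp, ?_⟩
  have hαm : α ^ m = (Nα : L) * rootPow L ((k : ℕ) : ZMod p) := by
    rw [hk, hβ, mul_comm (α ^ m), mul_inv_cancel_left₀ hNα0]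
  refine MulEquiv.ext fun g => hπ ?_
  have hcomm : π ((θ ^ m) g * z ^ k) = π (z ^ k * g) := by
    refine Equiv.ext fun i => rootPow_inj L ?_
    have h1 := hTn m g (rootPow L i)
    rw [hαm, mul_assoc, mul_assoc, (hF _).1 Nα.2] at h1
    have h2 := mul_left_cancel₀ hNα0 h1
    rw [hρ, ← rootPow_add L, ← rootPow_add L, hρ] at h2
    rw [map_mul, map_mul, Equiv.Perm.mul_apply, Equiv.Perm.mul_apply, hπz, hπz, add_comm i,
      add_comm (π g i)]
    exact h2.symm
  rw [MulAut.conj_apply, map_mul, map_inv, ← hcomm, map_mul, mul_inv_cancel_right]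

/-- **Intertwiner lemma.** -/
theorem exists_pow_conj_eq {K : Type*} [Group K] (π : K →* Equiv.Perm (ZMod p))
    (hπ : Function.Injective π) (z : K) (hz : ∀ i, π z i = i + 1)
    (hzc : ∃ g, ¬ Commute z g) (θ : MulAut K) (s : ℕ)
    (hθp : θ ^ p = MulAut.conj (z ^ s)) (D : Finset (ZMod p)) (hD0 : D.Nonempty)
    (hD1 : D ≠ Finset.univ)
    (hinv : ∀ (g : K) (i j : ZMod p), j - i ∈ D → π (θ g) j - π g i ∈ D) :
    ∃ m k : ℕ, ¬ p ∣ m ∧ θ ^ m = MulAut.conj (z ^ k) :=
  @exists_pow_conj_eq_aux p _ (CyclotomicField p ℚ) _ (CyclotomicField.algebra p ℚ)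
    (CyclotomicField.isCyclotomicExtension p ℚ) K _ π hπ z hz hzc θ s hθp D hD0 hD1 hinv

end CfsgLib.TwoTransSqSucc
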