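/-
Counting in 2-transitive groups: fixed-point lines and conjugates of an involution fixing two
points.
-/
import Mathlib

set_option autoImplicit false

namespace CfsgLib.TwoTransSqSucc

open MulAction

variable {G Ω : Type*} [Group G] [Finite G] [Fintype Ω] [MulAction G Ω]

open scoped Classical in
/-- The fixed point sets of size `p + 1` of the subgroups satisfying `Pr`. -/
noncomputable def lineSets (Ω : Type*) [Fintype Ω] [MulAction G Ω] (Pr : Subgroup G → Prop)
    (p : ℕ) : Finset (Finset Ω) :=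
  Finset.univ.filter fun L => L.card = p + 1 ∧
    ∃ Q : Subgroup G, Pr Q ∧ ∀ x, x ∈ L ↔ ∀ q ∈ Q, q • x = x

theorem mem_lineSets {Pr : Subgroup G → Prop} {p : ℕ} {L : Finset Ω} :
    L ∈ lineSets Ω Pr p ↔ L.card = p + 1 ∧
      ∃ Q : Subgroup G, Pr Q ∧ ∀ x, x ∈ L ↔ ∀ q ∈ Q, q • x = x := by
  simp [lineSets]

open scoped Classical in
theorem map_mem_lineSets {Pr : Subgroup G → Prop} {p : ℕ}
    (hconj : ∀ Q (g : G), Pr Q → Pr (Q.map (MulAut.conj g).toMonoidHom)) (g : G) {L : Finset Ω}
    (hL : L ∈ lineSets Ω Pr p) : L.image (g • ·) ∈ lineSets Ω Pr p := by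
  rw [mem_lineSets] at hL ⊢
  obtain ⟨hc, Q, hQ, hx⟩ := hL
  refine ⟨by rw [Finset.card_image_of_injective _ (MulAction.injective g), hc], _, hconj Q g hQ,
    fun x => ?_⟩
  constructor
  · intro hx'
    obtain ⟨y, hy, rfl⟩ := Finset.mem_image.1 hx'
    rintro _ ⟨q, hq, rfl⟩
    show (g * q * g⁻¹) • g • y = g • y
    rw [mul_smul, mul_smul, inv_smul_smul, (hx y).1 hy q hq]
  · intro hfix
    refine Finset.mem_image.2 ⟨g⁻¹ • x, (hx _).2 fun q hq => ?_, smul_inv_smul g x⟩
    have := hfix _ (Subgroup.mem_map_of_mem _ hq)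
    rw [MulEquiv.coe_toMonoidHom, MulAut.conj_apply, mul_smul, mul_smul] at this
    exact eq_inv_smul_iff.2 this

open scoped Classical in
/-- If `c` lines pass through two given points of a 2-transitive group of degree `p ^ 2 + 1`,
then `p + 1` divides `2 * c`. -/
theorem succ_dvd_two_mul_lineSets {p : ℕ} (hp : p.Prime) (hΩ : Fintype.card Ω = p ^ 2 + 1)
    (h2 : IsMultiplyPretransitive G Ω 2) {Pr : Subgroup G → Prop}
    (hconj : ∀ Q (g : G), Pr Q → Pr (Q.map (MulAut.conj g).toMonoidHom)) {a b : Ω} (hab : a ≠ b) :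
    p + 1 ∣ 2 * ((lineSets Ω Pr p).filter fun L => a ∈ L ∧ b ∈ L).card := by
  set ℒ := lineSets Ω Pr p with hℒ
  set c := (ℒ.filter fun L => a ∈ L ∧ b ∈ L).card with hc
  rw [is_two_pretransitive_iff] at h2
  have hconst : ∀ q ∈ (Finset.univ : Finset Ω).offDiag,
      (ℒ.filter fun L => q ∈ L.offDiag).card = c := by
    rintro ⟨x, y⟩ hq
    rw [Finset.mem_offDiag] at hq
    obtain ⟨g, hga, hgb⟩ := h2 hab hq.2.2
    replace hga : g • a = x := hga
    replace hgb : g • b = y := hgb
    symm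
    refine Finset.card_nbij' (fun L => L.image (g • ·)) (fun L => L.image (g⁻¹ • ·)) ?_ ?_ ?_ ?_
    · intro L hL
      simp only [Finset.coe_filter, Set.mem_setOf_eq, Finset.mem_offDiag] at hL ⊢
      exact ⟨map_mem_lineSets hconj g hL.1, Finset.mem_image.2 ⟨a, hL.2.1, hga⟩,
        Finset.mem_image.2 ⟨b, hL.2.2, hgb⟩, hq.2.2⟩
    · intro L hL
      simp only [Finset.coe_filter, Set.mem_setOf_eq, Finset.mem_offDiag] at hL ⊢
      exact ⟨map_mem_lineSets hconj g⁻¹ hL.1,
        Finset.mem_image.2 ⟨x, hL.2.1, by rw [← hga, inv_smul_smul]⟩,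
        Finset.mem_image.2 ⟨y, hL.2.2.1, by rw [← hgb, inv_smul_smul]⟩⟩
    · intro L _
      simp [Finset.image_image, Function.comp_def, smul_smul]
    · intro L _
      simp [Finset.image_image, Function.comp_def, smul_smul]
  have hsum : ∑ L ∈ ℒ, L.offDiag.card = (Finset.univ : Finset Ω).offDiag.card * c := by
    have hL : ∀ L : Finset Ω, L.offDiag = (Finset.univ : Finset Ω).offDiag.filter (· ∈ L.offDiag) :=
      fun L => by
        ext q
        simp only [Finset.mem_filter, Finset.mem_offDiag, Finset.mem_univ, true_and]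
        tauto
    rw [Finset.sum_congr rfl fun L _ => congrArg Finset.card (hL L)]
    simp only [Finset.card_filter]
    rw [Finset.sum_comm]
    simp only [← Finset.card_filter]
    rw [Finset.sum_congr rfl hconst, Finset.sum_const, smul_eq_mul]
  rw [Finset.sum_congr rfl (fun L hL => by
    rw [Finset.offDiag_card, (mem_lineSets.1 hL).1]), Finset.sum_const, smul_eq_mul,
    Finset.offDiag_card, Finset.card_univ, hΩ] at hsum
  have e1 : (p + 1) * (p + 1) - (p + 1) = (p + 1) * p := by
    rw [show (p + 1) * (p + 1) = (p + 1) * p + (p + 1) by ring, Nat.add_sub_cancel]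
  have e2 : (p ^ 2 + 1) * (p ^ 2 + 1) - (p ^ 2 + 1) = (p ^ 2 + 1) * p ^ 2 := by
    rw [show (p ^ 2 + 1) * (p ^ 2 + 1) = (p ^ 2 + 1) * p ^ 2 + (p ^ 2 + 1) by ring,
      Nat.add_sub_cancel]
  rw [e1, e2] at hsum
  have h3 : (p + 1) * (ℒ.card * p) = ((p ^ 2 + 1) * c * p) * p := by linarith
  rw [← mul_assoc, mul_left_inj' hp.ne_zero] at h3
  have h4 : p + 1 ∣ (p ^ 2 + 1) * c * p := ⟨_, h3.symm⟩
  have h5 : p + 1 ∣ ((p + 1) * (p - 1)) * c * p :=
    Dvd.dvd.mul_right (Dvd.dvd.mul_right (dvd_mul_right _ _) _) _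
  have e3 : (p ^ 2 + 1) * c * p = ((p + 1) * (p - 1)) * c * p + p * (2 * c) := by
    obtain ⟨k, rfl⟩ : ∃ k, p = k + 1 := ⟨p - 1, by have := hp.pos; omega⟩
    rw [Nat.add_sub_cancel]; ring
  rw [e3] at h4
  have h6 : p + 1 ∣ p * (2 * c) := (Nat.dvd_add_right h5).1 h4
  exact ((Nat.coprime_self_add_left).2 (Nat.coprime_one_left p)).dvd_of_dvd_mul_left h6

/-- The sign of an involution on a finite set. -/
theorem sign_toPerm_involution [DecidableEq Ω] {t : G} (ht : t * t = 1) :
    Equiv.Perm.sign (MulAction.toPerm t : Equiv.Perm Ω) =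
      (-1) ^ ((Fintype.card Ω - {x : Ω | t • x = x}.ncard) / 2) := by
  rw [Equiv.Perm.sign_of_pow_two_eq_one (Equiv.ext fun x => by simp [sq, smul_smul, ht]),
    ← Nat.card_eq_fintype_card (α := Function.fixedPoints _), ← Nat.card_coe_set_eq]
  rfl

open scoped Classical in
/-- Many conjugates of an involution fixing exactly two points swap a given pair. -/
theorem exists_swaps (h2 : IsMultiplyPretransitive G Ω 2) {t₀ : G} (ht₀ : t₀ * t₀ = 1)
    {a b : Ω} (hab : a ≠ b) (hfix : ∀ x, t₀ • x = x ↔ x = a ∨ x = b) :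
    ∃ S : Finset G, (∀ t ∈ S, IsConj t₀ t ∧ t • a = b ∧ t • b = a) ∧
      Fintype.card Ω - 2 ≤ 2 * S.card := by
  have : Fintype G := Fintype.ofFinite G
  rw [is_two_pretransitive_iff] at h2
  set C := (Finset.univ : Finset G).filter (IsConj t₀) with hC
  have hCmem : ∀ t, t ∈ C ↔ ∃ g : G, g * t₀ * g⁻¹ = t := fun t => by
    simp [hC, isConj_iff]
  have hinvol : ∀ t ∈ C, ∀ x : Ω, t • t • x = x := by
    intro t ht x
    obtain ⟨g, rfl⟩ := (hCmem t).1 ht
    rw [smul_smul, show g * t₀ * g⁻¹ * (g * t₀ * g⁻¹) = g * (t₀ * t₀) * g⁻¹ by group, ht₀,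
      mul_one, mul_inv_cancel, one_smul]
  set F : G → Finset Ω := fun t => Finset.univ.filter fun x => t • x = x with hF
  have hFcard : ∀ t ∈ C, (F t).card = 2 := by
    intro t ht
    obtain ⟨g, rfl⟩ := (hCmem t).1 ht
    have : F (g * t₀ * g⁻¹) = {g • a, g • b} := by
      ext x
      simp only [hF, Finset.mem_filter, Finset.mem_univ, true_and, Finset.mem_insert,
        Finset.mem_singleton]
      rw [mul_smul, mul_smul, ← eq_inv_smul_iff, hfix, inv_smul_eq_iff, inv_smul_eq_iff]
    rw [this, Finset.card_pair fun h => hab (MulAction.injective g h)]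
  set f : Ω × Ω → ℕ := fun q => (C.filter fun t => t • q.1 = q.2).card with hf
  have hconst : ∀ q ∈ (Finset.univ : Finset Ω).offDiag, f q = f (a, b) := by
    rintro ⟨x, y⟩ hq
    rw [Finset.mem_offDiag] at hq
    obtain ⟨g, hga, hgb⟩ := h2 hab hq.2.2
    replace hga : g • a = x := hga
    replace hgb : g • b = y := hgb
    symm
    refine Finset.card_nbij' (fun t => g * t * g⁻¹) (fun t => g⁻¹ * t * g) ?_ ?_ ?_ ?_
    · intro t ht
      simp only [Finset.coe_filter, Set.mem_setOf_eq] at ht ⊢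
      obtain ⟨k, hk⟩ := (hCmem t).1 ht.1
      exact ⟨(hCmem _).2 ⟨g * k, by rw [← hk]; group⟩,
        by rw [mul_smul, mul_smul, ← hga, inv_smul_smul, ht.2, hgb]⟩
    · intro t ht
      simp only [Finset.coe_filter, Set.mem_setOf_eq] at ht ⊢
      obtain ⟨k, hk⟩ := (hCmem t).1 ht.1
      exact ⟨(hCmem _).2 ⟨g⁻¹ * k, by rw [← hk]; group⟩,
        by rw [mul_smul, mul_smul, hga, ht.2, ← hgb, inv_smul_smul]⟩
    · intro t _; group
    · intro t _; group
  have hsum : C.card * (Fintype.card Ω - 2) =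
      (Finset.univ : Finset Ω).offDiag.card * f (a, b) := by
    have h1 : ∀ t ∈ C, (Fintype.card Ω - 2) =
        ((Finset.univ : Finset Ω).offDiag.filter fun q => t • q.1 = q.2).card := by
      intro t ht
      rw [← hFcard t ht, ← Finset.card_compl]
      symm
      refine Finset.card_nbij' (fun q => q.1) (fun x => (x, t • x)) ?_ ?_ ?_ ?_
      · intro q hq
        simp only [Finset.coe_filter, Finset.mem_offDiag, Set.mem_setOf_eq] at hq
        simp only [hF, Finset.coe_compl, Set.mem_compl_iff, Finset.coe_filter, Set.mem_setOf_eq,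
          Finset.mem_univ, true_and]
        exact fun h => hq.1.2.2 (h.symm.trans hq.2)
      · intro x hx
        simp only [hF, Finset.coe_compl, Set.mem_compl_iff, Finset.coe_filter, Set.mem_setOf_eq,
          Finset.mem_univ, true_and] at hx
        simp only [Finset.coe_filter, Finset.mem_offDiag, Set.mem_setOf_eq, Finset.mem_univ,
          true_and, and_true]
        exact fun h => hx h.symm
      · intro q hq
        simp only [Finset.coe_filter, Set.mem_setOf_eq] at hq
        exact Prod.ext rfl hq.2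
      · intro x _; rfl
    calc C.card * (Fintype.card Ω - 2) = ∑ t ∈ C, (Fintype.card Ω - 2) := by
          rw [Finset.sum_const, smul_eq_mul]
      _ = ∑ q ∈ (Finset.univ : Finset Ω).offDiag, f q := by
          rw [Finset.sum_congr rfl h1]
          simp only [hf, Finset.card_filter]
          rw [Finset.sum_comm]
      _ = _ := by rw [Finset.sum_congr rfl hconst, Finset.sum_const, smul_eq_mul]
  have hpairs : (Finset.univ : Finset Ω).offDiag.card ≤ 2 * C.card := by
    have hex : ∀ q : Ω × Ω, ∃ t, q ∈ (Finset.univ : Finset Ω).offDiag →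
        t ∈ C ∧ q ∈ (F t).offDiag := by
      intro q
      by_cases hq : q ∈ (Finset.univ : Finset Ω).offDiag
      · obtain ⟨g, hga, hgb⟩ := h2 hab (Finset.mem_offDiag.1 hq).2.2
        refine ⟨g * t₀ * g⁻¹, fun _ => ⟨(hCmem _).2 ⟨g, rfl⟩, ?_⟩⟩
        simp only [hF, Finset.mem_offDiag, Finset.mem_filter, Finset.mem_univ, true_and]
        refine ⟨?_, ?_, (Finset.mem_offDiag.1 hq).2.2⟩
        · rw [← hga, mul_smul, mul_smul, inv_smul_smul, (hfix a).2 (Or.inl rfl)]
        · rw [← hgb, mul_smul, mul_smul, inv_smul_smul, (hfix b).2 (Or.inr rfl)]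
      · exact ⟨1, fun h => absurd h hq⟩
    choose τ hτ using hex
    calc _ ≤ 2 * ((Finset.univ : Finset Ω).offDiag.image τ).card :=
          Finset.card_le_mul_card_image _ 2 fun t ht => by
            obtain ⟨q, hq, rfl⟩ := Finset.mem_image.1 ht
            refine (Finset.card_le_card (t := (F (τ q)).offDiag) fun q' hq' => ?_).trans ?_
            · obtain ⟨h1, h2⟩ := Finset.mem_filter.1 hq'
              exact h2 ▸ (hτ q' h1).2
            · rw [Finset.offDiag_card, hFcard _ (hτ q hq).1]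
      _ ≤ 2 * C.card := Nat.mul_le_mul_left 2 (Finset.card_le_card fun t ht => by
            obtain ⟨q, hq, rfl⟩ := Finset.mem_image.1 ht
            exact (hτ q hq).1)
  refine ⟨C.filter fun t => t • a = b, fun t ht => ?_, ?_⟩
  · obtain ⟨htC, hta⟩ := Finset.mem_filter.1 ht
    exact ⟨(Finset.mem_filter.1 htC).2, hta, by rw [← hta, hinvol t htC]⟩
  · have hC0 : 0 < C.card := Finset.card_pos.2 ⟨t₀, (hCmem _).2 ⟨1, by group⟩⟩
    refine Nat.le_of_mul_le_mul_left ?_ hC0
    rw [hsum]
    calc _ ≤ 2 * C.card * f (a, b) := Nat.mul_le_mul_right _ hpairs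
      _ = _ := by show 2 * C.card * f (a, b) = C.card * (2 * f (a, b)); ring

end CfsgLib.TwoTransSqSucc
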