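/-
The kernel `K` of a block system of a transitive group of degree `p ^ 2` whose point stabiliser
has order prime to `p`: faithfulness on the blocks, second block systems from normal subgroups,
and the centraliser of a nonregular kernel.
-/
import Cfsg.Agent.Lib.TwoTransSqSucc.Basic
import Cfsg.Agent.Lib.TwoTransSqSucc.Circulant

set_option autoImplicit false

namespace CfsgLib.TwoTransSqSucc

open MulAction
open scoped Pointwise

variable {A X : Type*} [Group A] [MulAction A X] [Finite A] [Finite X] {p : ℕ}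
  [hp : Fact p.Prime] {r : X → X → Prop} [IsPretransitive A X] [FaithfulSMul A X]
  {h : IsBlockRel A p r} {P : Sylow p A} {z : A}

theorem pow_mem_kerRel (hz : IsClassCycle h P z) (n : ℕ) : z ^ n ∈ kerRel h :=
  pow_mem hz.memK n

theorem class_subset_of_pow_mem_orbit (hz : IsClassCycle h P z) {N : Subgroup A}
    (hN : ∀ n ∈ N, z * n * z⁻¹ ∈ N) {x : X} {m : ℕ} (hm : z ^ m ≠ 1)
    (hx : z ^ m • x ∈ orbit N x) : relClass r x ⊆ orbit N x := by
  have hconj : ∀ (i : ℕ), ∀ n ∈ N, z ^ i * n * (z ^ i)⁻¹ ∈ N := by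
    intro i
    induction i with
    | zero => intro n hn; simpa using hn
    | succ i ih =>
      intro n hn
      have := hN _ (ih n hn)
      rw [pow_succ', mul_inv_rev]
      simpa [mul_assoc] using this
  obtain ⟨t, ht⟩ := hz.pow_mem_generates hm
  have hk : ∀ k, (z ^ m) ^ k • x ∈ orbit N x := by
    intro k
    induction k with
    | zero => rw [pow_zero, one_smul]; exact mem_orbit_self x
    | succ k ih =>
      obtain ⟨⟨a, ha⟩, hax⟩ := ih
      rw [pow_succ', mul_smul]
      obtain ⟨⟨c, hc⟩, hcx⟩ := hx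
      refine ⟨⟨(z ^ m * a * (z ^ m)⁻¹) * c, mul_mem (hconj m a ha) hc⟩, ?_⟩
      show ((z ^ m * a * (z ^ m)⁻¹) * c) • x = z ^ m • (z ^ m) ^ k • x
      rw [mul_smul, show c • x = z ^ m • x from hcx, mul_smul, mul_smul, inv_smul_smul]
      exact congrArg (z ^ m • ·) hax
  intro y hy
  obtain ⟨i, rfl⟩ := hz.trans hy
  rw [← ht, ← pow_mul]
  exact hk _

/-- The kernel is faithful on each class. -/
theorem eq_one_of_fix_class (hX : Nat.card X = p ^ 2) (hz : IsClassCycle h P z) {b : X}
    (hb : ¬ p ∣ Nat.card (stabilizer A b)) {k : A} (hk : k ∈ kerRel h) {c : X}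
    (hfix : ∀ y, r c y → k • y = y) : k = 1 := by
  refine FaithfulSMul.eq_of_smul_eq_smul (α := X) fun x => ?_
  rw [one_smul]
  let N : Subgroup A :=
    { carrier := {g | g ∈ kerRel h ∧ ∀ y, r c y → g • y = y}
      one_mem' := ⟨one_mem _, fun y _ => one_smul _ y⟩
      mul_mem' := fun {a b} ha hb => ⟨mul_mem ha.1 hb.1, fun y hy => by
        rw [mul_smul, hb.2 y hy, ha.2 y hy]⟩
      inv_mem' := fun {a} ha => ⟨inv_mem ha.1, fun y hy => by
        rw [inv_smul_eq_iff, ha.2 y hy]⟩ }
  by_contra hkx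
  obtain ⟨m, hm⟩ := hz.trans (hk x)
  have hm1 : z ^ m ≠ 1 := by
    intro h1
    rw [h1, one_smul] at hm
    exact hkx hm.symm
  have hsub := class_subset_of_pow_mem_orbit (r := r) hz (N := N) ?_ hm1
    ⟨⟨k, hk, hfix⟩, hm.symm⟩
  · have horb : orbit N x = relClass r x := by
      refine Set.Subset.antisymm ?_ hsub
      rintro _ ⟨g, rfl⟩
      exact g.2.1 x
    have h1 := ncard_orbit_mul N x
    rw [horb, relClass, h.card] at h1
    refine not_dvd_all hX hb c (Dvd.dvd.trans ⟨_, h1.symm⟩ ?_)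
    exact Subgroup.card_dvd_of_le fun g hg => hg.2 c (h.refl c)
  · rintro n ⟨hn1, hn2⟩
    refine ⟨(kerRel_normal h).conj_mem n hn1 z, fun y hy => ?_⟩
    have h2 : r c (z⁻¹ • y) := h.trans hy (by
      have := (inv_mem hz.memK : z⁻¹ ∈ kerRel h) y
      exact this)
    rw [mul_smul, mul_smul, hn2 _ h2, smul_inv_smul]

theorem eq_pow_of_commute (hX : Nat.card X = p ^ 2) (hz : IsClassCycle h P z) {b : X}
    (hb : ¬ p ∣ Nat.card (stabilizer A b)) {k : A} (hk : k ∈ kerRel h) (hc : Commute k z) :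
    ∃ n : ℕ, k = z ^ n := by
  obtain ⟨n, hn⟩ := hz.trans (hk b)
  refine ⟨n, ?_⟩
  have hmem : (z ^ n)⁻¹ * k ∈ kerRel h := mul_mem (inv_mem (pow_mem_kerRel hz n)) hk
  have := eq_one_of_fix_class hX hz hb hmem (c := b) fun y hy => by
    obtain ⟨i, rfl⟩ := hz.trans hy
    have hci : Commute ((z ^ n)⁻¹ * k) (z ^ i) :=
      ((((Commute.refl z).pow_left n).inv_left).mul_left hc).pow_right i
    rw [← mul_smul, hci.eq, mul_smul, mul_smul, ← hn, inv_smul_smul]
  rwa [inv_mul_eq_one, eq_comm] at this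

theorem card_kerRel (hz : IsClassCycle h P z) (x : X) :
    Nat.card (kerRel h) = p * Nat.card ↥(kerRel h ⊓ stabilizer A x) := by
  rw [← ncard_orbit_mul (kerRel h) x]
  have : orbit (kerRel h) x = relClass r x := by
    ext y
    constructor
    · rintro ⟨g, rfl⟩; exact g.2 x
    · intro hy
      obtain ⟨n, hn⟩ := hz.trans hy
      exact ⟨⟨z ^ n, pow_mem_kerRel hz n⟩, hn⟩
  rw [this, relClass, h.card]

theorem pow_eq_self_of_mem {N : Subgroup A} (hz : IsClassCycle h P z) {i : ℕ}
    (hi : ¬ p ∣ i) (hmem : z ^ i ∈ N) : z ∈ N := by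
  obtain ⟨t, ht⟩ := exists_pow_eq_self_of_coprime (x := z) (n := i) (by
    rw [hz.order, Nat.coprime_comm, hp.out.coprime_iff_not_dvd]; exact hi)
  rw [← ht]; exact pow_mem hmem t

/-- A nontrivial normal subgroup avoiding `z` gives a second block system. -/
theorem exists_second_system (hX : Nat.card X = p ^ 2) (hz : IsClassCycle h P z) {b : X}
    (hb : ¬ p ∣ Nat.card (stabilizer A b)) {N : Subgroup A} [hN : N.Normal] (hN1 : N ≠ ⊥)
    (hzN : z ∉ N) :
    ∃ r' : X → X → Prop, IsBlockRel A p r' ∧ ∀ x y, r x y → r' x y → x = y := by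
  have horbcard : ∀ (g : A) (x : X), (orbit N (g • x)).ncard = (orbit N x).ncard := fun g x => by
    rw [← smul_orbit_eq_orbit_smul, Set.ncard_smul_set]
  have hall : ∀ x, (orbit N x).ncard = (orbit N b).ncard := fun x => by
    obtain ⟨g, rfl⟩ := exists_smul_eq A b x; exact horbcard g b
  have hd := (IsBlock.orbit_of_normal (G := A) (N := N) b).ncard_dvd_card (nonempty_orbit b)
  rw [hX] at hd
  obtain ⟨i, hi, hBi⟩ := (Nat.dvd_prime_pow hp.out).1 hd
  have hp' : (orbit N b).ncard = p := by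
    interval_cases i
    · exfalso
      refine hN1 ((Subgroup.eq_bot_iff_forall _).2 fun n hn => ?_)
      refine FaithfulSMul.eq_of_smul_eq_smul (α := X) fun x => ?_
      rw [one_smul]
      have h1 := (hall x).trans hBi
      rw [pow_zero, Set.ncard_eq_one] at h1
      obtain ⟨a, ha⟩ := h1
      have e1 : n • x ∈ orbit N x := ⟨⟨n, hn⟩, rfl⟩
      have e2 : x ∈ orbit N x := mem_orbit_self x
      rw [ha, Set.mem_singleton_iff] at e1 e2
      exact e1.trans e2.symm
    · simpa using hBi
    · exfalso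
      apply hzN
      have h1 := ncard_orbit_mul N b
      rw [hBi] at h1
      have h2 := Subgroup.card_mul_index N
      rw [← h1, card_eq_mul_stabilizer (A := A) hX b, mul_assoc,
        mul_right_inj' (pow_ne_zero 2 hp.out.ne_zero)] at h2
      refine pow_eq_self_of_mem hz (i := N.index) ?_ (N.pow_index_mem z)
      exact fun h3 => hb (h3.trans ⟨_, by rw [← h2, mul_comm]⟩)
  refine ⟨fun x y => y ∈ orbit N x,
    { refl := mem_orbit_self, symm := fun {x y} h1 => mem_orbit_symm.1 h1,
      trans := fun {x y w} h1 h2 => by rw [← orbit_eq_iff.2 h1]; exact h2,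
      smul := fun g {x y} h1 => by
        rw [← smul_orbit_eq_orbit_smul]; exact Set.smul_mem_smul_set h1,
      card := fun x => (hall x).trans hp' }, ?_⟩
  intro x y hxy hxy'
  by_contra hne
  obtain ⟨m, hm⟩ := hz.trans hxy
  have hm1 : z ^ m ≠ 1 := by
    intro h1; rw [h1, one_smul] at hm; exact hne hm
  have hsub := class_subset_of_pow_mem_orbit (r := r) hz (fun n hn => hN.conj_mem n hn z) hm1
    (by rw [hm]; exact hxy')
  have heq : relClass r x = orbit N x := Set.eq_of_subset_of_ncard_le hsub (by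
    rw [hall x, hp', relClass, h.card])
  have hNK : N ≤ kerRel h := by
    intro n hn w
    obtain ⟨g, rfl⟩ := exists_smul_eq A x w
    have e1 : g⁻¹ • n • g • x ∈ orbit N x :=
      ⟨⟨g⁻¹ * n * g, by simpa using hN.conj_mem n hn g⁻¹⟩, smul_inv_conj g n x⟩
    rw [← heq] at e1
    have := h.smul g e1
    rwa [smul_inv_smul] at this
  apply hzN
  have h1 := ncard_orbit_mul N x
  rw [← heq, relClass, h.card] at h1
  have h2 := Subgroup.card_mul_index (N.subgroupOf (kerRel h))
  rw [Nat.card_congr (Subgroup.subgroupOfEquivOfLe hNK).toEquiv, card_kerRel hz x, ← h1,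
    mul_assoc, mul_right_inj' hp.out.ne_zero] at h2
  have h3 := (N.subgroupOf (kerRel h)).pow_index_mem ⟨z, hz.memK⟩
  refine pow_eq_self_of_mem hz (i := (N.subgroupOf (kerRel h)).index) ?_
    (Subgroup.mem_subgroupOf.1 h3)
  intro h4
  exact not_dvd_all hX hb x ((h4.trans ⟨_, by rw [← h2, mul_comm]⟩).trans
    (Subgroup.card_dvd_of_le inf_le_right))

theorem mem_normalizer_zpowers {g : A} (hg : g * z * g⁻¹ ∈ Subgroup.zpowers z) :
    g ∈ Subgroup.normalizer (Subgroup.zpowers z : Set A) := by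
  rw [Subgroup.mem_normalizer_iff_map_conj_eq]
  refine Subgroup.eq_of_le_of_card_ge ?_ ?_
  · rw [MonoidHom.map_zpowers, Subgroup.zpowers_le]
    simpa using hg
  · rw [Subgroup.card_map_of_injective (MulEquiv.injective _)]

theorem card_mul_le_of_disjoint {H E W : Subgroup A} (hE : E ≤ H) (hW : W ≤ H)
    (hd : E ⊓ W = ⊥) : Nat.card E * Nat.card W ≤ Nat.card H := by
  rw [← Nat.card_prod]
  refine Nat.card_le_card_of_injective (fun q : E × W => (⟨q.1.1 * q.2.1,
    mul_mem (hE q.1.2) (hW q.2.2)⟩ : H)) fun q q' hq => ?_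
  have h1 : (q.1.1 : A) * q.2.1 = q'.1.1 * q'.2.1 := congrArg Subtype.val hq
  have h2 : (q'.1.1 : A)⁻¹ * q.1.1 = q'.2.1 * (q.2.1 : A)⁻¹ := by
    rw [eq_mul_inv_iff_mul_eq, mul_assoc, h1, inv_mul_cancel_left]
  have h3 : (q'.1.1 : A)⁻¹ * q.1.1 ∈ E ⊓ W :=
    ⟨E.mul_mem (E.inv_mem q'.1.2) q.1.2, h2 ▸ W.mul_mem q'.2.2 (W.inv_mem q.2.2)⟩
  rw [hd, Subgroup.mem_bot, inv_mul_eq_one] at h3
  have h4 : (q.2.1 : A) = q'.2.1 := by rw [← h3] at h1; exact mul_left_cancel h1
  exact Prod.ext (Subtype.ext h3.symm) (Subtype.ext h4)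

/-- If the kernel is not the cycle, some point stabiliser of the kernel is intransitive on
another class. -/
theorem exists_intransitive (hX : Nat.card X = p ^ 2) (hz : IsClassCycle h P z) {b : X}
    (hb : ¬ p ∣ Nat.card (stabilizer A b)) :
    ∃ x w y, ¬ r x w ∧ r w y ∧ ∀ k ∈ kerRel h, k • x = x → k • w ≠ y := by
  classical
  by_contra hcon
  push_neg at hcon
  have : Fintype A := Fintype.ofFinite A
  have : Fintype X := Fintype.ofFinite X
  set K := kerRel h with hK
  set N := K ⊓ Subgroup.normalizer (Subgroup.zpowers z : Set A) with hN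
  set k0 := Nat.card ↥(K ⊓ stabilizer A b) with hk0
  have hK' : ∀ x : X, Nat.card ↥(K ⊓ stabilizer A x) = k0 := fun x =>
    Nat.eq_of_mul_eq_mul_left hp.out.pos ((card_kerRel hz x).symm.trans (card_kerRel hz b))
  set e := Nat.card ↥(N ⊓ stabilizer A b) with he
  have he' : ∀ x : X, Nat.card N = p * Nat.card ↥(N ⊓ stabilizer A x) := by
    intro x
    rw [← ncard_orbit_mul N x]
    have : orbit N x = relClass r x := by
      ext y
      constructor
      · rintro ⟨g, rfl⟩; exact g.2.1 x
      · intro hy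
        obtain ⟨n, hn⟩ := hz.trans hy
        exact ⟨⟨z ^ n, pow_mem_kerRel hz n,
          Subgroup.le_normalizer (Subgroup.npow_mem_zpowers z n)⟩, hn⟩
    rw [this, relClass, h.card]
  have he'' : ∀ x : X, Nat.card ↥(N ⊓ stabilizer A x) = e := fun x =>
    Nat.eq_of_mul_eq_mul_left hp.out.pos ((he' x).symm.trans (he' b))
  have hcard : ∀ H : Subgroup A, Nat.card H = (Finset.univ.filter (· ∈ H)).card := fun H =>
    Nat.subtype_card _ (by simp)
  set f : X → X → ℕ := fun x w => Nat.card ↥(K ⊓ stabilizer A x ⊓ stabilizer A w) with hf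
  set Φ : A → ℕ := fun k => (Finset.univ.filter fun x : X => k • x = x).card with hΦ
  set Kf := Finset.univ.filter (· ∈ K) with hKf
  have hS1 : ∑ k ∈ Kf, Φ k = p ^ 2 * k0 := by
    calc ∑ k ∈ Kf, Φ k = ∑ k ∈ Kf, ∑ x : X, if k • x = x then 1 else 0 := by
          simp only [hΦ, Finset.card_filter]
      _ = ∑ x : X, k0 := by
          rw [Finset.sum_comm]
          refine Finset.sum_congr rfl fun x _ => ?_
          rw [← Finset.card_filter, ← hK' x, hcard, hKf, Finset.filter_filter]
          refine congrArg Finset.card (Finset.filter_congr fun k _ => ?_)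
          simp [Subgroup.mem_inf]
      _ = p ^ 2 * k0 := by
          rw [Finset.sum_const, smul_eq_mul, Finset.card_univ, ← Nat.card_eq_fintype_card, hX]
  have hS2 : ∑ k ∈ Kf, Φ k * Φ k = ∑ x : X, ∑ w : X, f x w := by
    calc ∑ k ∈ Kf, Φ k * Φ k
        = ∑ k ∈ Kf, ∑ x : X, ∑ w : X, if k • x = x ∧ k • w = w then 1 else 0 := by
          refine Finset.sum_congr rfl fun k _ => ?_
          simp only [hΦ, Finset.card_filter, Finset.sum_mul, Finset.mul_sum]
          refine Finset.sum_congr rfl fun x _ => Finset.sum_congr rfl fun w _ => ?_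
          by_cases h1 : k • x = x <;> by_cases h2 : k • w = w <;> simp [h1, h2]
      _ = _ := by
          rw [Finset.sum_comm]
          refine Finset.sum_congr rfl fun x _ => ?_
          rw [Finset.sum_comm]
          refine Finset.sum_congr rfl fun w _ => ?_
          rw [← Finset.card_filter, hf]
          simp only
          rw [hcard, hKf, Finset.filter_filter]
          refine congrArg Finset.card (Finset.filter_congr fun k _ => ?_)
          simp [Subgroup.mem_inf, and_assoc]
  have hbound : ∀ x : X, e * ∑ w : X, f x w ≤ e * (p * k0) + (p - 1) * k0 := by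
    intro x
    have hcl : (Finset.univ.filter (r x)).card = p := by
      have h1 := h.card x
      rw [Set.ncard_eq_toFinset_card' {y | r x y}] at h1
      rw [← h1]; congr 1; ext y; simp
    rw [← Finset.sum_filter_add_sum_filter_not Finset.univ (r x) (f x), mul_add]
    have hout : ∀ w ∈ Finset.univ.filter (fun w => ¬ r x w), p * f x w = k0 := by
      intro w hw
      have hw' := (Finset.mem_filter.1 hw).2
      rw [← hK' x, ← ncard_orbit_mul (K ⊓ stabilizer A x) w]
      have : orbit ↥(K ⊓ stabilizer A x) w = relClass r w := by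
        ext y
        constructor
        · rintro ⟨g, rfl⟩; exact g.2.1 w
        · intro hy
          obtain ⟨k, hk, hkx, hky⟩ := hcon x w y hw' hy
          exact ⟨⟨k, hk, hkx⟩, hky⟩
      rw [this, relClass, h.card]
    have hout' : ∑ w ∈ Finset.univ.filter (fun w => ¬ r x w), f x w = (p - 1) * k0 := by
      refine Nat.eq_of_mul_eq_mul_left hp.out.pos ?_
      rw [Finset.mul_sum, Finset.sum_congr rfl hout, Finset.sum_const, smul_eq_mul,
        Finset.filter_not, Finset.card_univ_diff, hcl, ← Nat.card_eq_fintype_card, hX, ← mul_assoc,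
        Nat.mul_sub, mul_one, sq]
    have hin : e * ∑ w ∈ Finset.univ.filter (r x), f x w ≤ e * k0 + (p - 1) * k0 := by
      rw [← Finset.add_sum_erase _ _ (show x ∈ Finset.univ.filter (r x) by simp [h.refl x]),
        mul_add]
      refine Nat.add_le_add (le_of_eq ?_) ?_
      · rw [hf]; simp only [inf_assoc, inf_idem]; rw [hK' x]
      · rw [Finset.mul_sum]
        refine (Finset.sum_le_card_nsmul _ _ k0 fun w hw => ?_).trans (le_of_eq ?_)
        · obtain ⟨hwx, hw⟩ := Finset.mem_erase.1 hw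
          have hxw := (Finset.mem_filter.1 hw).2
          rw [← he'' x, ← hK' x]
          refine card_mul_le_of_disjoint (inf_le_inf_right _ inf_le_left) inf_le_left ?_
          rw [Subgroup.eq_bot_iff_forall]
          rintro g ⟨⟨⟨hgK, hgN⟩, hgx⟩, -, hgw⟩
          replace hgx : g • x = x := hgx
          replace hgw : g • w = w := hgw
          obtain ⟨n, rfl⟩ := hz.trans hxw
          have hn1 : z ^ n ≠ 1 := fun h1 => hwx (by rw [h1, one_smul])
          have hgz : g * z * g⁻¹ ∈ Subgroup.zpowers z :=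
            (Subgroup.mem_normalizer_iff.1 hgN z).1 (Subgroup.mem_zpowers z)
          obtain ⟨j, hj : z ^ j = g * z * g⁻¹⟩ := (mem_powers_iff_mem_zpowers (x := z)).2 hgz
          have hgn : g * z ^ n * g⁻¹ = z ^ (j * n) := by rw [← conj_pow, ← hj, pow_mul]
          have h5 : z ^ (j * n) • x = z ^ n • x := by
            rw [← hgn, mul_smul, mul_smul, inv_smul_eq_iff.2 hgx.symm, hgw]
          have hcomm : Commute g (z ^ n) := by
            have h6 : ((z ^ n)⁻¹ * z ^ (j * n)) • x = x := by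
              rw [mul_smul, h5, inv_smul_smul]
            have h7 : (z ^ n)⁻¹ * z ^ (j * n) ∈ Subgroup.zpowers z :=
              mul_mem (inv_mem (Subgroup.npow_mem_zpowers z n)) (Subgroup.npow_mem_zpowers z _)
            obtain ⟨m, hm : z ^ m = _⟩ := (mem_powers_iff_mem_zpowers (x := z)).2 h7
            rw [← hm] at h6
            have h8 := hz.eq_one_of_fix hX hb h6
            rw [hm, inv_mul_eq_one] at h8
            rw [← h8] at hgn
            exact mul_inv_eq_iff_eq_mul.1 hgn
          obtain ⟨t, ht⟩ := hz.pow_mem_generates hn1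
          have hgz' : Commute g z := by rw [← ht]; exact hcomm.pow_right t
          obtain ⟨m, rfl⟩ := eq_pow_of_commute hX hz hb hgK hgz'
          exact hz.eq_one_of_fix hX hb hgx
        · rw [Finset.card_erase_of_mem (by simp [h.refl x]), hcl, smul_eq_mul]
    rw [hout']
    have : p * k0 = k0 + (p - 1) * k0 := by
      have := hp.out.two_le
      nth_rewrite 1 [show p = 1 + (p - 1) by omega]
      ring
    calc _ ≤ (e * k0 + (p - 1) * k0) + e * ((p - 1) * k0) := Nat.add_le_add hin le_rfl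
      _ = _ := by rw [this]; ring
  -- the derangements of order `p`
  obtain ⟨U, hU1, hUK, hUΦ, hUcard⟩ : ∃ U : Finset A, (1 : A) ∉ U ∧ U ⊆ Kf ∧
      (∀ g ∈ U, Φ g = 0) ∧ (p - 1) * k0 ≤ e * U.card := by
    let F : (K ⧸ N.subgroupOf K) × Fin (p - 1) → A :=
      fun q => (q.1.out : A) * z ^ (q.2.val + 1) * (q.1.out : A)⁻¹
    have hF1 : ∀ q : (K ⧸ N.subgroupOf K) × Fin (p - 1), z ^ (q.2.val + 1) ≠ 1 := fun q => by
      refine pow_ne_one_of_lt_orderOf (by omega) ?_
      rw [hz.order]; have := q.2.isLt; omega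
    have hFinj : Function.Injective F := by
      rintro ⟨q, i⟩ ⟨q', i'⟩ hqq
      simp only [F] at hqq
      set g : A := (q'.out : A)⁻¹ * (q.out : A) with hg
      have h1 : g * z ^ (i.val + 1) * g⁻¹ = z ^ (i'.val + 1) := by
        rw [hg]
        calc (q'.out : A)⁻¹ * (q.out : A) * z ^ (i.val + 1) * ((q'.out : A)⁻¹ * (q.out : A))⁻¹
            = (q'.out : A)⁻¹ * ((q.out : A) * z ^ (i.val + 1) * (q.out : A)⁻¹) * (q'.out : A) := by
              group
          _ = _ := by rw [hqq]; group
      obtain ⟨t, ht⟩ := hz.pow_mem_generates (hF1 ⟨q, i⟩)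
      have h2 : g * z * g⁻¹ ∈ Subgroup.zpowers z := by
        have e1 : g * z * g⁻¹ = (z ^ (i'.val + 1)) ^ t := by
          rw [← h1, conj_pow]
          exact congrArg (fun w => g * w * g⁻¹) ht.symm
        rw [e1]
        exact pow_mem (Subgroup.npow_mem_zpowers z _) t
      have h3 : (q'.out)⁻¹ * q.out ∈ N.subgroupOf K := by
        rw [Subgroup.mem_subgroupOf]
        exact ⟨((q'.out)⁻¹ * q.out).2, mem_normalizer_zpowers h2⟩
      have h4 : q' = q := by
        rw [← QuotientGroup.out_eq' q', ← QuotientGroup.out_eq' q]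
        exact QuotientGroup.eq.2 h3
      subst h4
      have h5 : z ^ (i.val + 1) = z ^ (i'.val + 1) := by
        rwa [hg, inv_mul_cancel, one_mul, inv_one, mul_one] at h1
      have h6 := pow_injOn_Iio_orderOf (x := z)
        (Set.mem_Iio.2 (by rw [hz.order]; have := i.isLt; omega))
        (Set.mem_Iio.2 (by rw [hz.order]; have := i'.isLt; omega)) h5
      exact Prod.ext rfl (Fin.ext (Nat.succ_injective h6))
    refine ⟨(Finset.univ : Finset A).filter (fun g => g ∈ Set.range F), ?_, ?_, ?_, ?_⟩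
    · simp only [Finset.mem_filter, Finset.mem_univ, true_and, Set.mem_range, not_exists]
      intro q hq
      exact hF1 q (by simpa [F] using (conj_eq_one_iff).1 hq)
    · intro g hg
      obtain ⟨q, rfl⟩ := (Finset.mem_filter.1 hg).2
      rw [hKf, Finset.mem_filter]
      exact ⟨Finset.mem_univ _, mul_mem (mul_mem q.1.out.2 (pow_mem_kerRel hz _))
        (inv_mem q.1.out.2)⟩
    · intro g hg
      obtain ⟨q, rfl⟩ := (Finset.mem_filter.1 hg).2
      simp only [hΦ, Finset.card_eq_zero, Finset.filter_eq_empty_iff]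
      intro x _ hx
      simp only [F, mul_smul] at hx
      rw [← eq_inv_smul_iff] at hx
      exact hF1 q (hz.eq_one_of_fix hX hb hx)
    · have hc : ((Finset.univ : Finset A).filter (fun g => g ∈ Set.range F)).card =
          Nat.card ((K ⧸ N.subgroupOf K) × Fin (p - 1)) := by
        rw [← Nat.card_range_of_injective hFinj, Nat.card_eq_fintype_card, ← Set.toFinset_card]
        congr 1
        ext; simp
      have h7 := Subgroup.card_mul_index (N.subgroupOf K)
      rw [Nat.card_congr (Subgroup.subgroupOfEquivOfLe (inf_le_left : N ≤ K)).toEquiv, he' b,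
        card_kerRel hz b, mul_assoc, mul_right_inj' hp.out.ne_zero, ← he, ← hk0,
        Subgroup.index] at h7
      rw [hc, Nat.card_prod, Nat.card_fin, ← h7]
      exact le_of_eq (by ring)
  -- compare
  have hKc : (Kf.card : ℤ) = p * k0 := by
    rw [hKf, ← hcard]; exact_mod_cast card_kerRel hz b
  have hsum : ∑ k ∈ Kf, ((Φ k : ℤ) - p) ^ 2 =
      ((∑ x : X, ∑ w : X, f x w : ℕ) : ℤ) - p ^ 3 * k0 := by
    have e1 : ∀ k, ((Φ k : ℤ) - p) ^ 2 = ((Φ k * Φ k : ℕ) : ℤ) - 2 * p * (Φ k : ℕ) + p ^ 2 := by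
      intro k; push_cast; ring
    simp only [e1]
    rw [Finset.sum_add_distrib, Finset.sum_sub_distrib, ← Finset.mul_sum, ← Nat.cast_sum,
      ← Nat.cast_sum, hS2, hS1, Finset.sum_const, nsmul_eq_mul, hKc]
    push_cast; ring
  have hlow : ((p : ℤ) ^ 2 - p) ^ 2 + (U.card : ℤ) * p ^ 2 ≤ ∑ k ∈ Kf, ((Φ k : ℤ) - p) ^ 2 := by
    refine le_trans (le_of_eq ?_) (Finset.sum_le_sum_of_subset_of_nonneg
      (s := insert (1 : A) U) ?_ fun k _ _ => sq_nonneg _)
    · rw [Finset.sum_insert hU1,
        Finset.sum_congr rfl (fun g hg => show ((Φ g : ℤ) - p) ^ 2 = p ^ 2 by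
          rw [hUΦ g hg]; simp), Finset.sum_const, nsmul_eq_mul]
      have : Φ 1 = p ^ 2 := by
        simp only [hΦ, one_smul, Finset.filter_true, Finset.card_univ]
        rw [← Nat.card_eq_fintype_card, hX]
      rw [this]; push_cast; ring
    · exact Finset.insert_subset (by simp [hKf, one_mem]) hUK
  have hup : e * ∑ x : X, ∑ w : X, f x w ≤ p ^ 2 * (e * (p * k0) + (p - 1) * k0) := by
    rw [Finset.mul_sum]
    refine (Finset.sum_le_sum fun x _ => hbound x).trans (le_of_eq ?_)
    rw [Finset.sum_const, Finset.card_univ, ← Nat.card_eq_fintype_card, hX, smul_eq_mul]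
  have hup' : (e : ℤ) * ((∑ x : X, ∑ w : X, f x w : ℕ) : ℤ) ≤
      (p : ℤ) ^ 2 * ((e : ℤ) * (p * k0) + ((p - 1 : ℕ) : ℤ) * k0) := by exact_mod_cast hup
  have hUc : ((p - 1 : ℕ) : ℤ) * k0 ≤ (e : ℤ) * U.card := by exact_mod_cast hUcard
  have he0 : (1 : ℤ) ≤ e := by exact_mod_cast (Nat.card_pos : 0 < e)
  have h2 := hp.out.two_le
  have hpp : (1 : ℤ) ≤ ((p : ℤ) ^ 2 - p) ^ 2 := by
    have : (1 : ℤ) ≤ (p : ℤ) ^ 2 - p := by
      have : (2 : ℤ) ≤ p := by exact_mod_cast h2
      nlinarith
    nlinarith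
  have h3 := mul_le_mul_of_nonneg_left (hsum ▸ hlow) (by omega : (0 : ℤ) ≤ e)
  have h4 := mul_le_mul_of_nonneg_left hUc (sq_nonneg (p : ℤ))
  nlinarith [mul_le_mul he0 hpp zero_le_one (by omega : (0 : ℤ) ≤ (e : ℤ))]

end CfsgLib.TwoTransSqSucc
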