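/-
Transitive groups of degree `p ^ 2` with a block system and point stabiliser of order prime to
`p`: either there is a second block system meeting the first in points, or the point stabiliser
is semiregular and of order at most `p - 1`.
-/
import Cfsg.Agent.Lib.TwoTransSqSucc.Kernel

set_option autoImplicit false

namespace CfsgLib.TwoTransSqSucc

open MulAction
open scoped Pointwise

variable {A X : Type*} [Group A] [MulAction A X] [Finite A] [Finite X] {p : ℕ}
  [hp : Fact p.Prime] {r : X → X → Prop} [IsPretransitive A X] [FaithfulSMul A X]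
  {h : IsBlockRel A p r} {P : Sylow p A} {z : A}

/-- The conclusion for a semiregular point stabiliser. -/
def SemiregBound (A : Type*) {X : Type*} [Group A] [MulAction A X] (p : ℕ) (b : X) : Prop :=
  (∀ (g : A) (x : X), g • b = b → g • x = x → x ≠ b → g = 1) ∧
    Nat.card (stabilizer A b) ≤ p - 1

theorem semiregBound_of_cycle (hz : IsClassCycle h P z) {b : X}
    (hK : ∀ g : A, g • b = b → g * z * g⁻¹ ∈ Subgroup.zpowers z)
    (hsemi : ∀ (g : A) (x : X), g • b = b → g • x = x → x ≠ b → g = 1) :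
    SemiregBound A p b := by
  refine ⟨hsemi, ?_⟩
  obtain ⟨y, hy, hyb⟩ := Set.exists_ne_of_one_lt_ncard
    (show 1 < {y | r b y}.ncard by rw [h.card]; exact hp.out.one_lt) b
  obtain ⟨n, rfl⟩ := hz.trans hy
  have hz1 : z ≠ 1 := fun h1 => by
    have := hz.order; rw [h1, orderOf_one] at this; exact hp.out.one_lt.ne this
  have hcard : ((Subgroup.zpowers z : Set A) \ {1}).ncard = p - 1 := by
    rw [Set.ncard_sdiff_singleton_of_mem (Subgroup.one_mem _), ← Nat.card_coe_set_eq]
    exact congrArg (· - 1) ((Nat.card_zpowers z).trans hz.order)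
  rw [← hcard, ← Nat.card_coe_set_eq]
  refine Nat.card_le_card_of_injective (fun g : stabilizer A b =>
    ⟨(g : A) * z * (g : A)⁻¹, hK g g.2, fun h1 => hz1 (conj_eq_one_iff.1 h1)⟩) ?_
  intro g g' hgg
  have h1 : (g : A) * z * (g : A)⁻¹ = (g' : A) * z * (g' : A)⁻¹ := congrArg Subtype.val hgg
  have h2 : Commute ((g' : A)⁻¹ * g) z := by
    unfold Commute SemiconjBy
    calc (g' : A)⁻¹ * g * z = (g' : A)⁻¹ * ((g : A) * z * (g : A)⁻¹) * g := by group
      _ = _ := by rw [h1]; group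
  have h3 : ((g' : A)⁻¹ * g) • b = b := ((g'⁻¹ * g : stabilizer A b)).2
  have h4 : ((g' : A)⁻¹ * g) • z ^ n • b = z ^ n • b := by
    rw [← mul_smul, (h2.pow_right n).eq, mul_smul, h3]
  exact Subtype.ext (inv_mul_eq_one.1 (hsemi _ _ h3 h4 hyb)).symm

/-- A nonregular kernel has a nontrivial centraliser outside it. -/
theorem second_system_of_ne_cycle (hX : Nat.card X = p ^ 2) (hz : IsClassCycle h P z) {b : X}
    (hb : ¬ p ∣ Nat.card (stabilizer A b)) (hk : ∃ k ∈ kerRel h, k • b = b ∧ k ≠ 1) :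
    ∃ r' : X → X → Prop, IsBlockRel A p r' ∧ ∀ x y, r x y → r' x y → x = y := by
  classical
  obtain ⟨g0, hg0, hg0b, hg01⟩ := hk
  have hnc : ¬ Commute g0 z := fun hc => by
    obtain ⟨n, rfl⟩ := eq_pow_of_commute hX hz hb hg0 hc
    exact hg01 (hz.eq_one_of_fix hX hb hg0b)
  obtain ⟨x, w, y0, hxw, hwy, hno⟩ := exists_intransitive hX hz hb
  set K := kerRel h with hKdef
  haveI : K.Normal := kerRel_normal h
  obtain ⟨y, hyP, hyx⟩ := sylow_transitive hX P x w
  have hPc := IsPGroup.commutative_of_card_eq_prime_sq hz.card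
  have hzy : Commute z y :=
    congrArg Subtype.val (hPc ⟨z, hz.memP⟩ ⟨y, hyP⟩)
  -- coordinates on the class of `x`
  let pt : ZMod p → X := fun i => z ^ i.val • x
  have hpt_nat : ∀ n : ℕ, z ^ n • x = pt (n : ZMod p) := by
    intro n
    show z ^ n • x = z ^ (n : ZMod p).val • x
    conv_lhs => rw [pow_eq_pow_mod n (show z ^ p = 1 from hz.order ▸ pow_orderOf_eq_one z)]
    rw [ZMod.val_natCast]
  have hpt_inj : Function.Injective pt := by
    have key : ∀ i j : ℕ, i ≤ j → z ^ i • x = z ^ j • x → z ^ (j - i) = 1 := fun i j hij hh => by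
      refine hz.eq_one_of_fix hX hb (x := z ^ i • x) ?_
      rw [← mul_smul, ← pow_add, Nat.sub_add_cancel hij, hh]
    intro i j hij
    refine ZMod.val_injective p ?_
    rcases le_total i.val j.val with h1 | h1
    · have h2 := key _ _ h1 hij
      rw [← orderOf_dvd_iff_pow_eq_one, hz.order] at h2
      have := Nat.eq_zero_of_dvd_of_lt h2 (by have := j.val_lt; omega)
      omega
    · have h2 := key _ _ h1 hij.symm
      rw [← orderOf_dvd_iff_pow_eq_one, hz.order] at h2
      have := Nat.eq_zero_of_dvd_of_lt h2 (by have := i.val_lt; omega)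
      omega
  have hpt_mem : ∀ i, r x (pt i) := fun i => pow_mem_kerRel hz _ x
  have hpt_surj : ∀ v, r x v → ∃ i, pt i = v := fun v hv => by
    obtain ⟨n, rfl⟩ := hz.trans hv
    exact ⟨n, (hpt_nat n).symm⟩
  have hpt_add : ∀ (n : ℕ) i, z ^ n • pt i = pt ((n : ZMod p) + i) := by
    intro n i
    show z ^ n • z ^ i.val • x = _
    rw [← mul_smul, ← pow_add, hpt_nat, Nat.cast_add, ZMod.natCast_zmod_val]
  have hpt0 : pt 0 = x := by show z ^ (0 : ZMod p).val • x = x; rw [ZMod.val_zero, pow_zero, one_smul]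
  let idx : X → ZMod p := fun v => Function.invFun pt v
  have hidx : ∀ v, r x v → pt (idx v) = v := fun v hv => Function.invFun_eq (hpt_surj v hv)
  have hKcl : ∀ (k : K) i, r x ((k : A) • pt i) := fun k i => h.trans (hpt_mem i) (k.2 _)
  let act : K → ZMod p → ZMod p := fun k i => idx ((k : A) • pt i)
  have hact : ∀ k i, pt (act k i) = (k : A) • pt i := fun k i => hidx _ (hKcl k i)
  have hact_mul : ∀ k k' i, act (k * k') i = act k (act k' i) := fun k k' i =>
    hpt_inj (by rw [hact, hact, hact, Subgroup.coe_mul, mul_smul])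
  have hact_one : ∀ i, act 1 i = i := fun i => hpt_inj (by rw [hact, OneMemClass.coe_one, one_smul])
  let π : K →* Equiv.Perm (ZMod p) :=
    { toFun := fun k =>
        { toFun := act k
          invFun := act k⁻¹
          left_inv := fun i => by rw [← hact_mul, inv_mul_cancel, hact_one]
          right_inv := fun i => by rw [← hact_mul, mul_inv_cancel, hact_one] }
      map_one' := Equiv.ext hact_one
      map_mul' := fun k k' => Equiv.ext fun i => hact_mul k k' i }
  have hπ : ∀ k i, pt (π k i) = (k : A) • pt i := hact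
  have hπinj : Function.Injective π := by
    intro k k' hkk
    have h1 : ((k' : A)⁻¹ * k) = 1 := eq_one_of_fix_class hX hz hb
      (K.mul_mem (K.inv_mem k'.2) k.2) (c := x) fun v hv => by
        obtain ⟨i, rfl⟩ := hpt_surj v hv
        rw [mul_smul, ← hπ, hkk, hπ, inv_smul_smul]
    exact Subtype.ext (inv_mul_eq_one.1 h1).symm
  set zK : K := ⟨z, hz.memK⟩ with hzK
  have hπz : ∀ i, π zK i = i + 1 := fun i => hpt_inj (by
    rw [hπ]
    have := hpt_add 1 i
    rw [pow_one, Nat.cast_one, add_comm] at this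
    exact this)
  have hnc' : ∃ g : K, ¬ Commute zK g := ⟨⟨g0, hg0⟩, fun hc =>
    hnc (congrArg Subtype.val hc).symm⟩
  -- the automorphism
  set θ : MulAut K := MulAut.conjNormal y⁻¹ with hθ
  have hθval : ∀ (n : ℕ) (k : K), (((θ ^ n) k : K) : A) = (y ^ n)⁻¹ * k * y ^ n := by
    intro n k
    rw [hθ, ← map_pow, MulAut.conjNormal_apply, inv_pow, inv_inv]
  obtain ⟨s, hs⟩ : ∃ s : ℕ, z ^ s = (y ^ p)⁻¹ := by
    have hyp : y ^ p ∈ (P : Subgroup A) ⊓ classStab h x := by
      obtain ⟨-, -, h4, -⟩ := sylow_classStab hX h P x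
      set S := (P : Subgroup A) ⊓ classStab h x with hS
      have hSn : (S.subgroupOf (P : Subgroup A)).Normal := ⟨fun a ha g => by
        rw [Subgroup.mem_subgroupOf] at ha ⊢
        exact conj_mem_of_card_mul P.2 inf_le_left h4 g.2 ha⟩
      have hi : (S.subgroupOf (P : Subgroup A)).index = p := by
        have h1 := Subgroup.card_mul_index (S.subgroupOf (P : Subgroup A))
        rw [Nat.card_congr (Subgroup.subgroupOfEquivOfLe (inf_le_left : S ≤ P)).toEquiv, ← h4]
          at h1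
        exact Nat.eq_of_mul_eq_mul_left Nat.card_pos h1
      have h2 := (S.subgroupOf (P : Subgroup A)).pow_index_mem ⟨y, hyP⟩
      rw [hi] at h2
      exact Subgroup.mem_subgroupOf.1 h2
    rw [hz.stab x] at hyp
    exact (mem_powers_iff_mem_zpowers (x := z)).2 (inv_mem hyp)
  have hθp : θ ^ p = MulAut.conj (zK ^ s) := by
    refine MulEquiv.ext fun k => Subtype.ext ?_
    rw [hθval, MulAut.conj_apply, Subgroup.coe_mul, Subgroup.coe_mul, Subgroup.coe_inv,
      SubgroupClass.coe_pow, hs, inv_inv]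
  -- the relation
  set D : Finset (ZMod p) := Finset.univ.filter
    (fun j => ∃ k : K, (k : A) • x = x ∧ (k : A) • w = y • pt j) with hD
  have hD0 : D.Nonempty := ⟨0, by
    simp only [hD, Finset.mem_filter, Finset.mem_univ, true_and]
    exact ⟨1, by simp, by simp [hpt0, hyx]⟩⟩
  have hD1 : D ≠ Finset.univ := by
    intro hu
    have hy0 : r x (y⁻¹ • y0) := by
      have := h.smul y⁻¹ hwy
      rwa [← hyx, inv_smul_smul] at this
    obtain ⟨j, hj⟩ := hpt_surj _ hy0
    have hjD : j ∈ D := hu ▸ Finset.mem_univ j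
    simp only [hD, Finset.mem_filter, Finset.mem_univ, true_and] at hjD
    obtain ⟨k, hk1, hk2⟩ := hjD
    exact hno k k.2 hk1 (by rw [hk2, hj, smul_inv_smul])
  have hinv : ∀ (g : K) (i j : ZMod p), j - i ∈ D → π (θ g) j - π g i ∈ D := by
    intro g i j hij
    simp only [hD, Finset.mem_filter, Finset.mem_univ, true_and] at hij ⊢
    obtain ⟨k, hk1, hk2⟩ := hij
    have hzy' : ∀ (n : ℕ) (v : X), z ^ n • y • v = y • z ^ n • v := fun n v => by
      rw [← mul_smul, (hzy.pow_left n).eq, mul_smul]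
    have hga : (θ g : A) = y⁻¹ * g * y := by
      have := hθval 1 g; rwa [pow_one, pow_one] at this
    refine ⟨zK ^ (-(π g i)).val * (g * (zK ^ i.val * k)), ?_, ?_⟩
    · simp only [Subgroup.coe_mul, SubgroupClass.coe_pow, mul_smul, hzK, hk1]
      rw [show z ^ i.val • x = pt i from rfl, ← hπ, hpt_add, ZMod.natCast_zmod_val,
        neg_add_cancel, hpt0]
    · simp only [Subgroup.coe_mul, SubgroupClass.coe_pow, mul_smul, hzK, hk2]
      rw [hzy', hpt_add, ZMod.natCast_zmod_val, add_sub_cancel,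
        show (g : A) • y • pt j = y • ((θ g : K) : A) • pt j by
          rw [hga, mul_smul, mul_smul, smul_inv_smul],
        ← hπ, hzy', hpt_add, ZMod.natCast_zmod_val, neg_add_eq_sub]
  obtain ⟨m, n, hm, hmn⟩ := exists_pow_conj_eq π hπinj zK hπz hnc' θ s hθp D hD0 hD1 hinv
  set c := y ^ m * z ^ n with hc
  have hcent : ∀ k ∈ K, k * c = c * k := by
    intro k hk
    have h1 := congrArg (fun φ : MulAut K => (φ ⟨k, hk⟩ : A)) hmn
    simp only [hθval, MulAut.conj_apply, Subgroup.coe_mul, Subgroup.coe_inv,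
      SubgroupClass.coe_pow, hzK] at h1
    calc k * c = y ^ m * ((y ^ m)⁻¹ * k * y ^ m) * z ^ n := by rw [hc]; group
      _ = y ^ m * (z ^ n * k * (z ^ n)⁻¹) * z ^ n := by rw [h1]
      _ = c * k := by rw [hc]; group
  have hc1 : c ∉ K := by
    intro hcK
    have hymK : y ^ m ∈ K := (K.mul_mem_cancel_right (pow_mem_kerRel hz n)).1 hcK
    have hym : y ^ m ∈ Subgroup.zpowers z := by
      rw [← hz.stab x]; exact ⟨pow_mem hyP m, hymK x⟩
    have hyp : y ^ p ∈ Subgroup.zpowers z := by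
      rw [← inv_inv (y ^ p), ← hs]; exact inv_mem (Subgroup.npow_mem_zpowers z s)
    have hy1 : y ∈ Subgroup.zpowers z := by
      have hg : Int.gcd (m : ℤ) p = 1 := by
        rw [Int.gcd_natCast_natCast]
        exact (hp.out.coprime_iff_not_dvd.2 hm).symm
      have hb1 := Int.gcd_eq_gcd_ab (m : ℤ) p
      rw [hg, Nat.cast_one] at hb1
      have : y = (y ^ m) ^ Int.gcdA m p * (y ^ p) ^ Int.gcdB m p := by
        rw [← zpow_natCast, ← zpow_natCast, ← zpow_mul, ← zpow_mul, ← zpow_add, ← hb1, zpow_one]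
      rw [this]
      exact Subgroup.mul_mem _ (Subgroup.zpow_mem _ hym _) (Subgroup.zpow_mem _ hyp _)
    rw [← hz.stab x] at hy1
    exact hxw (hyx ▸ hy1.2)
  have hcmem : c ∈ Subgroup.centralizer (K : Set A) := fun k hk => hcent k hk
  have hne : Subgroup.centralizer (K : Set A) ≠ ⊥ := fun h0 => by
    rw [h0, Subgroup.mem_bot] at hcmem
    exact hc1 (hcmem ▸ K.one_mem)
  exact exists_second_system (N := Subgroup.centralizer (K : Set A)) hX hz hb hne
    fun hzC => hnc (hzC g0 hg0)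

open scoped IsMulCommutative in
/-- A regular kernel: a second system or a semiregular stabiliser. -/
theorem dichotomy_of_cycle (hX : Nat.card X = p ^ 2) (hz : IsClassCycle h P z) {b : X}
    (hb : ¬ p ∣ Nat.card (stabilizer A b)) (hK1 : ∀ k ∈ kerRel h, k • b = b → k = 1) :
    (∃ r' : X → X → Prop, IsBlockRel A p r' ∧ ∀ x y, r x y → r' x y → x = y) ∨
      SemiregBound A p b := by
  have hKz : ∀ k ∈ kerRel h, k ∈ Subgroup.zpowers z := fun k hk => by
    obtain ⟨n, hn⟩ := hz.trans (hk b)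
    have := hK1 _ (mul_mem (inv_mem (pow_mem_kerRel hz n)) hk)
      (by rw [mul_smul, ← hn, inv_smul_smul])
    rw [inv_mul_eq_one] at this
    exact this ▸ Subgroup.npow_mem_zpowers z n
  have hconjz : ∀ g : A, g * z * g⁻¹ ∈ Subgroup.zpowers z := fun g =>
    hKz _ ((kerRel_normal h).conj_mem z hz.memK g)
  set C := Subgroup.centralizer ({z} : Set A) with hC
  have hCmem : ∀ {c}, c ∈ C ↔ Commute z c := fun {c} =>
    Subgroup.mem_centralizer_singleton_iff.trans ⟨fun h1 => h1.symm, fun h1 => h1.symm⟩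
  have hCn : C.Normal := ⟨fun c hc g => by
    rw [hCmem] at hc ⊢
    obtain ⟨i, hi⟩ := hconjz g⁻¹
    simp only at hi
    rw [inv_inv] at hi
    have h1 : Commute (g⁻¹ * z * g) c := hi ▸ hc.zpow_left i
    have h2 : g * ((g⁻¹ * z * g) * c) * g⁻¹ = g * (c * (g⁻¹ * z * g)) * g⁻¹ := by rw [h1.eq]
    unfold Commute SemiconjBy
    calc z * (g * c * g⁻¹) = g * ((g⁻¹ * z * g) * c) * g⁻¹ := by group
      _ = _ := h2
      _ = g * c * g⁻¹ * z := by group⟩
  have hPc := IsPGroup.commutative_of_card_eq_prime_sq hz.card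
  have hPC : (P : Subgroup A) ≤ C := fun q hq => hCmem.2
    (congrArg Subtype.val (hPc ⟨z, hz.memP⟩ ⟨q, hq⟩))
  set P' := (P : Subgroup A).subgroupOf C with hP'
  haveI : IsMulCommutative P' := ⟨⟨fun a c => Subtype.ext (Subtype.ext
    (show ((a : C) : A) * ((c : C) : A) = ((c : C) : A) * ((a : C) : A) from
      congrArg Subtype.val (hPc ⟨(a : C).1, a.2⟩ ⟨(c : C).1, c.2⟩)))⟩⟩
  have hP'card : Nat.card P' = p ^ 2 :=
    (Nat.card_congr (Subgroup.subgroupOfEquivOfLe hPC).toEquiv).trans hz.card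
  have hidx : ¬ p ∣ P'.index := by
    intro hd
    refine P.not_dvd_index (hd.trans ⟨C.index, ?_⟩)
    exact (Subgroup.relIndex_mul_index hPC).symm
  let τ : C →* P' := MonoidHom.transfer (MonoidHom.id P')
  set D := (τ.ker.map C.subtype).normalCore with hD
  have hzC : z ∈ C := hPC hz.memP
  have hτz : τ ⟨z, hzC⟩ ≠ 1 := by
    have key : ∀ (k : ℕ) (g₀ : C), g₀⁻¹ * (⟨z, hzC⟩ : C) ^ k * g₀ ∈ P' →
        g₀⁻¹ * (⟨z, hzC⟩ : C) ^ k * g₀ = (⟨z, hzC⟩ : C) ^ k := fun k g₀ _ => by
      have hc : Commute (⟨z, hzC⟩ : C) g₀ := Subtype.ext (hCmem.1 g₀.2)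
      rw [mul_assoc, (hc.pow_left k).eq, inv_mul_cancel_left]
    intro h0
    simp only [τ, MonoidHom.transfer_eq_pow (MonoidHom.id P') (⟨z, hzC⟩ : C) key,
      MonoidHom.id_apply, Subtype.ext_iff, OneMemClass.coe_one, SubgroupClass.coe_pow] at h0
    exact hidx (hz.order ▸ orderOf_dvd_of_pow_eq_one h0)
  have hzD : z ∉ D := fun hzd => hτz (by
    obtain ⟨c, hc, hce⟩ := Subgroup.normalCore_le _ hzd
    have : c = ⟨z, hzC⟩ := Subtype.ext hce
    exact this ▸ hc)
  by_cases hD0 : D = ⊥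
  case neg => exact Or.inl (exists_second_system (N := D) hX hz hb hD0 hzD)
  -- the centraliser is abelian and regular
  have hT : ∀ t : C, (∀ g : A, ∃ hg : g * t * g⁻¹ ∈ C, τ ⟨_, hg⟩ = 1) → t = 1 := by
    intro t ht
    have : (t : A) ∈ D := fun g => by
      obtain ⟨hg, h1⟩ := ht g
      exact ⟨⟨_, hg⟩, h1, rfl⟩
    rw [hD0, Subgroup.mem_bot] at this
    exact Subtype.ext this
  have hCcomm : ∀ c d : C, c * d = d * c := by
    intro c d
    have := hT (c * d * (d * c)⁻¹) fun g => ⟨hCn.conj_mem _ (c * d * (d * c)⁻¹).2 g, by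
      have e : (⟨g * ((c * d * (d * c)⁻¹ : C) : A) * g⁻¹,
          hCn.conj_mem _ (c * d * (d * c)⁻¹).2 g⟩ : C) =
          (⟨g * c * g⁻¹, hCn.conj_mem _ c.2 g⟩ * ⟨g * d * g⁻¹, hCn.conj_mem _ d.2 g⟩) *
          (⟨g * d * g⁻¹, hCn.conj_mem _ d.2 g⟩ * ⟨g * c * g⁻¹, hCn.conj_mem _ c.2 g⟩)⁻¹ := by
        apply Subtype.ext
        simp only [Subgroup.coe_mul, Subgroup.coe_inv]
        group
      rw [e, map_mul, map_inv, map_mul, map_mul, mul_comm (τ _) (τ ⟨g * d * g⁻¹, _⟩),
        mul_inv_cancel]⟩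
    exact mul_inv_eq_one.1 this
  have hCb : ∀ c ∈ C, c • b = b → c = 1 := by
    intro c hc hcb
    have := hT ⟨c, hc⟩ fun g => ⟨hCn.conj_mem c hc g, by
      rw [← orderOf_eq_one_iff]
      set u := τ ⟨g * c * g⁻¹, hCn.conj_mem c hc g⟩ with hu
      have h1 : orderOf u ∣ orderOf (⟨g * c * g⁻¹, hCn.conj_mem c hc g⟩ : C) :=
        orderOf_map_dvd τ _
      have h1' : orderOf (g * c * g⁻¹) = orderOf c := MulEquiv.orderOf_eq (MulAut.conj g) c
      rw [Subgroup.orderOf_mk (g * c * g⁻¹), h1'] at h1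
      have h2 : orderOf c ∣ Nat.card (stabilizer A b) :=
        Subgroup.orderOf_dvd_natCard _ hcb
      have h3 : orderOf u ∣ p ^ 2 := hP'card ▸ orderOf_dvd_natCard u
      exact Nat.eq_one_of_dvd_coprimes
        (Nat.Coprime.pow_left 2 (hp.out.coprime_iff_not_dvd.2 hb)) h3 (h1.trans h2)⟩
    exact congrArg Subtype.val this
  by_cases hsr : ∀ (g : A) (x : X), g • b = b → g • x = x → x ≠ b → g = 1
  · exact Or.inr (semiregBound_of_cycle hz (fun g _ => hconjz g) hsr)
  push_neg at hsr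
  obtain ⟨g, x, hgb, hgx, hxb, hg1⟩ := hsr
  left
  let Y := C ⊓ Subgroup.centralizer ({g} : Set A)
  have hYmem : ∀ {c}, c ∈ Y ↔ c ∈ C ∧ c * g = g * c := fun {c} =>
    Iff.and Iff.rfl Subgroup.mem_centralizer_singleton_iff
  have hzpc : ∀ u ∈ Subgroup.zpowers z, ∀ v ∈ Subgroup.zpowers z, u * v = v * u := by
    rintro _ ⟨i, rfl⟩ _ ⟨j, rfl⟩; exact ((Commute.refl z).zpow_zpow i j).eq
  -- the stabiliser of `b` is commutative
  have hHc : ∀ u v : A, u • b = b → v • b = b → u * v = v * u := by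
    intro u v hu hv
    obtain ⟨i, hi : z ^ i = u * z * u⁻¹⟩ := hconjz u
    obtain ⟨j, hj : z ^ j = v * z * v⁻¹⟩ := hconjz v
    have huv : (u * v) * z * (u * v)⁻¹ = (z ^ i) ^ j := by
      rw [hi, conj_zpow, hj]; group
    have hvu : (v * u) * z * (v * u)⁻¹ = (z ^ i) ^ j := by
      rw [← zpow_mul, mul_comm i j, zpow_mul, hj, conj_zpow, hi]; group
    have h2 : ((v * u)⁻¹ * (u * v)) ∈ C := hCmem.2 (by
      unfold Commute SemiconjBy
      calc z * ((v * u)⁻¹ * (u * v))
          = (v * u)⁻¹ * ((v * u) * z * (v * u)⁻¹) * (u * v) := by group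
        _ = (v * u)⁻¹ * ((u * v) * z * (u * v)⁻¹) * (u * v) := by rw [huv, hvu]
        _ = _ := by group)
    have h3 := hCb _ h2 (by rw [mul_smul, mul_smul, inv_smul_eq_iff, mul_smul, hv, hu, hv])
    exact (inv_mul_eq_one.1 h3).symm
  obtain ⟨q, hqP, rfl⟩ := sylow_transitive hX P b x
  have hqY : q ∈ Y := hYmem.2 ⟨hPC hqP, by
    have hqC := hPC hqP
    have h1 : q⁻¹ * (g * q * g⁻¹) ∈ C := mul_mem (inv_mem hqC) (hCn.conj_mem q hqC g)
    have h2 := hCb _ h1 (by
      rw [mul_smul, mul_smul, mul_smul, inv_smul_eq_iff.2 hgb.symm, hgx, inv_smul_smul])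
    rw [inv_mul_eq_one] at h2
    exact (eq_mul_inv_iff_mul_eq.1 h2)⟩
  haveI : Y.Normal := ⟨fun c hc a => by
    obtain ⟨u, hu, hua⟩ := sylow_transitive hX P b (a • b)
    rw [hYmem] at hc ⊢
    have hab : (u⁻¹ * a) • b = b := by rw [mul_smul, ← hua, inv_smul_smul]
    set t := u⁻¹ * a with ht
    have hta : a = u * t := by rw [ht, mul_inv_cancel_left]
    have htc : t * c * t⁻¹ ∈ C := hCn.conj_mem c hc.1 t
    have huc : a * c * a⁻¹ = t * c * t⁻¹ := by
      have := congrArg Subtype.val (hCcomm ⟨u, hPC hu⟩ ⟨t * c * t⁻¹, htc⟩)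
      simp only [Subgroup.coe_mul] at this
      calc a * c * a⁻¹ = u * (t * c * t⁻¹) * u⁻¹ := by rw [hta]; group
        _ = _ := by rw [this]; group
    rw [huc]
    refine ⟨htc, ?_⟩
    have htg : t * g = g * t := hHc t g hab hgb
    have htg' : t⁻¹ * g = g * t⁻¹ := (Commute.inv_left htg).eq
    calc t * c * t⁻¹ * g = t * (c * g) * t⁻¹ := by simp only [mul_assoc, htg']
      _ = t * (g * c) * t⁻¹ := by rw [hc.2]
      _ = g * (t * c * t⁻¹) := by simp only [← mul_assoc, htg]⟩
  refine exists_second_system (N := Y) hX hz hb ?_ ?_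
  · intro h0
    rw [h0, Subgroup.mem_bot] at hqY
    subst hqY
    exact hxb (one_smul _ b)
  · intro hzY
    exact hg1 (hCb g (hCmem.2 (hYmem.1 hzY).2) hgb)

/-- **Main dichotomy for point stabilisers of order prime to `p`.** -/
theorem regular_dichotomy (hX : Nat.card X = p ^ 2) (h : IsBlockRel A p r) {b : X}
    (hb : ¬ p ∣ Nat.card (stabilizer A b)) :
    (∃ r' : X → X → Prop, IsBlockRel A p r' ∧ ∀ x y, r x y → r' x y → x = y) ∨
      SemiregBound A p b := by
  obtain ⟨P⟩ : Nonempty (Sylow p A) := inferInstance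
  obtain ⟨z, hz⟩ := exists_isClassCycle hX h hb P
  by_cases hk : ∃ k ∈ kerRel h, k • b = b ∧ k ≠ 1
  · exact Or.inl (second_system_of_ne_cycle hX hz hb hk)
  · push_neg at hk
    exact dichotomy_of_cycle hX hz hb hk

/-- Two classes of transversal systems meet in exactly one point. -/
theorem exists_meet {r r' : X → X → Prop} (hX : Nat.card X = p ^ 2) (h : IsBlockRel A p r)
    (h' : IsBlockRel A p r') (hmeet : ∀ x y, r x y → r' x y → x = y) (x y : X) :
    ∃ v, r x v ∧ r' y v := by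
  have hinj : Function.Injective (fun s : Σ v : {v // r x v}, {u // r' v.1 u} => (s.2 : X)) := by
    rintro ⟨⟨v, hv⟩, ⟨u, hu⟩⟩ ⟨⟨v', hv'⟩, ⟨u', hu'⟩⟩ (rfl : u = u')
    obtain rfl := hmeet v v' (h.trans (h.symm hv) hv') (h'.trans hu (h'.symm hu'))
    rfl
  have hcard : ∀ {s : X → X → Prop} (_ : IsBlockRel A p s) (v : X),
      Nat.card {u // s v u} = p := fun {s} hs v => by
    rw [← hs.card v, ← Nat.card_coe_set_eq]; rfl
  have hbij := hinj.bijective_of_nat_card_le (by
    haveI : Fintype {v // r x v} := Fintype.ofFinite _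
    rw [Nat.card_sigma, Finset.sum_congr rfl (fun v _ => hcard h' v.1), Finset.sum_const,
      Finset.card_univ, ← Nat.card_eq_fintype_card, hcard h x, hX, smul_eq_mul, sq])
  obtain ⟨⟨⟨v, hv⟩, ⟨u, hu⟩⟩, (rfl : u = y)⟩ := hbij.2 y
  exact ⟨v, hv, h'.symm hu⟩

/-- A subgroup fixing `b` and exactly `p` points fixes one of the two classes of `b`. -/
theorem fixSet_eq_one_of_two {r r' : X → X → Prop} (hX : Nat.card X = p ^ 2)
    (h : IsBlockRel A p r) (h' : IsBlockRel A p r')
    (hmeet : ∀ x y, r x y → r' x y → x = y) {Q : Subgroup A} {b : X}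
    (hQb : ∀ q ∈ Q, q • b = b) (hc : (fixSet X Q).ncard = p) :
    fixSet X Q = relClass r b ∨ fixSet X Q = relClass r' b := by
  classical
  have hmf : ∀ {x y v}, x ∈ fixSet X Q → y ∈ fixSet X Q → r x v → r' y v →
      v ∈ fixSet X Q := by
    intro x y v hx hy h1 h2 q hq
    have e1 := h.smul q h1; rw [hx q hq] at e1
    have e2 := h'.smul q h2; rw [hy q hq] at e2
    exact (hmeet _ _ (h.trans (h.symm h1) e1) (h'.trans (h'.symm h2) e2)).symm
  set F := fixSet X Q with hF
  have hbF : b ∈ F := hQb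
  set J := {v : X // v ∈ F ∧ r b v} with hJ
  set I := {v : X // v ∈ F ∧ r' b v} with hI
  have hmj : ∀ s : J × I, ∃ v, r (s.2 : X) v ∧ r' (s.1 : X) v := fun s =>
    exists_meet hX h h' hmeet _ _
  choose m hm using hmj
  have hmF : ∀ s, m s ∈ F := fun s => hmf s.2.2.1 s.1.2.1 (hm s).1 (hm s).2
  have hbij : Function.Bijective (fun s : J × I => (⟨m s, hmF s⟩ : F)) := by
    constructor
    · intro s t hst
      have e : m s = m t := congrArg Subtype.val hst
      have h1 : (s.1 : X) = t.1 := hmeet _ _ (h.trans (h.symm s.1.2.2) t.1.2.2)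
        (h'.trans (hm s).2 (e ▸ h'.symm (hm t).2))
      have h2 : (s.2 : X) = t.2 := hmeet _ _ (h.trans (hm s).1 (e ▸ h.symm (hm t).1))
        (h'.trans (h'.symm s.2.2.2) t.2.2.2)
      exact Prod.ext (Subtype.ext h1) (Subtype.ext h2)
    · rintro ⟨v, hv⟩
      obtain ⟨j, hj1, hj2⟩ := exists_meet hX h h' hmeet b v
      obtain ⟨i, hi1, hi2⟩ := exists_meet hX h h' hmeet v b
      refine ⟨⟨⟨j, hmf hbF hv hj1 hj2, hj1⟩, ⟨i, hmf hv hbF hi1 hi2, hi2⟩⟩,
        Subtype.ext ?_⟩
      exact hmeet _ _ (h.trans (h.symm (hm _).1) (h.symm hi1))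
        (h'.trans (h'.symm (hm _).2) (h'.symm hj2))
  have hJI : Nat.card J * Nat.card I = p := by
    rw [← Nat.card_prod, Nat.card_eq_of_bijective _ hbij, Nat.card_coe_set_eq, hc]
  have hsub : ∀ {s : X → X → Prop} (hs : IsBlockRel A p s) (n : ℕ),
      Nat.card {v : X // v ∈ F ∧ s b v} = n → n = p → F = relClass s b := by
    intro s hs n hn hnp
    have h1 : {v | v ∈ F ∧ s b v} = F := Set.eq_of_subset_of_ncard_le (fun v hv => hv.1) (by
      rw [hc, ← Nat.card_coe_set_eq, show Nat.card ({v | v ∈ F ∧ s b v} : Set X) = n from hn,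
        hnp])
    refine Set.eq_of_subset_of_ncard_le (fun v hv => (h1.symm ▸ hv :).2) ?_
    rw [hc, relClass, hs.card]
  rcases hp.out.eq_one_or_self_of_dvd _ ⟨_, hJI.symm⟩ with h1 | h1
  · rw [h1, one_mul] at hJI
    exact Or.inr (hsub h' _ hJI rfl)
  · exact Or.inl (hsub h _ h1 rfl)

/-- The fixed points of a nontrivial stabiliser in the kernel form the transversal class. -/
theorem fixSet_kerRel_stab {r r' : X → X → Prop} (hX : Nat.card X = p ^ 2)
    (h : IsBlockRel A p r) (h' : IsBlockRel A p r')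
    (hmeet : ∀ x y, r x y → r' x y → x = y) {b : X}
    (hb : ¬ p ∣ Nat.card (stabilizer A b)) (hne : kerRel h ⊓ stabilizer A b ≠ ⊥) :
    fixSet X (kerRel h ⊓ stabilizer A b) = relClass r' b := by
  obtain ⟨P⟩ : Nonempty (Sylow p A) := inferInstance
  obtain ⟨z, hz⟩ := exists_isClassCycle hX h hb P
  have honly : ∀ v, r b v → v ∈ fixSet X (kerRel h ⊓ stabilizer A b) → v = b := by
    intro v hv hvF
    by_contra hvb
    obtain ⟨n, rfl⟩ := hz.trans hv
    have hn1 : z ^ n ≠ 1 := fun h1 => hvb (by rw [h1, one_smul])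
    have hnorm : ∀ k ∈ kerRel h ⊓ stabilizer A b,
        (z ^ n)⁻¹ * k * z ^ n ∈ kerRel h ⊓ stabilizer A b := fun k hk => by
      refine ⟨(kerRel h).mul_mem ((kerRel h).mul_mem ((kerRel h).inv_mem (pow_mem_kerRel hz n))
        hk.1) (pow_mem_kerRel hz n), ?_⟩
      show ((z ^ n)⁻¹ * k * z ^ n) • b = b
      rw [smul_inv_conj, hvF k hk, inv_smul_smul]
    have hpow : ∀ (t : ℕ) (k : A), k ∈ kerRel h ⊓ stabilizer A b →
        k • (z ^ n) ^ t • b = (z ^ n) ^ t • b := by
      intro t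
      induction t with
      | zero => intro k hk; simpa using hk.2
      | succ t ih =>
        intro k hk
        have := ih _ (hnorm k hk)
        rw [smul_inv_conj, inv_smul_eq_iff] at this
        rw [pow_succ', mul_smul]
        exact this
    refine hne ((Subgroup.eq_bot_iff_forall _).2 fun k hk =>
      eq_one_of_fix_class hX hz hb hk.1 (c := b) fun u hu => ?_)
    obtain ⟨i, rfl⟩ := hz.trans hu
    obtain ⟨t, ht⟩ := hz.pow_mem_generates hn1
    rw [← ht, ← pow_mul]
    exact hpow _ k hk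
  apply Set.Subset.antisymm
  · intro w hw
    obtain ⟨v, hv1, hv2⟩ := exists_meet hX h h' hmeet b w
    have hvb : v = b := honly v hv1 fun q hq => by
      have e1 := h.smul q hv1; rw [mem_stabilizer_iff.1 hq.2] at e1
      have e2 := h'.smul q hv2; rw [hw q hq] at e2
      exact (hmeet _ _ (h.trans (h.symm hv1) e1) (h'.trans (h'.symm hv2) e2)).symm
    exact h'.symm (hvb ▸ hv2)
  · intro w hw q hq
    have e2 := h'.smul q (show r' b w from hw)
    rw [mem_stabilizer_iff.1 hq.2] at e2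
    exact (hmeet _ _ (hq.1 w) (h'.trans (h'.symm hw) e2)).symm

/-- With both kernels meeting the stabiliser trivially, the stabiliser is semiregular. -/
theorem eq_one_of_two_systems {r r' : X → X → Prop} (hX : Nat.card X = p ^ 2)
    (h : IsBlockRel A p r) (h' : IsBlockRel A p r')
    (hmeet : ∀ x y, r x y → r' x y → x = y) {b : X}
    (hb : ¬ p ∣ Nat.card (stabilizer A b)) (hK : kerRel h ⊓ stabilizer A b = ⊥)
    (hK' : kerRel h' ⊓ stabilizer A b = ⊥) {g : A} {x : X} (hgb : g • b = b) (hgx : g • x = x)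
    (hxb : ¬ r b x) : g = 1 := by
  obtain ⟨P⟩ : Nonempty (Sylow p A) := inferInstance
  obtain ⟨z, hz⟩ := exists_isClassCycle hX h' hb P
  obtain ⟨v, hv1, hv2⟩ := exists_meet hX h h' hmeet x b
  have hvb : v ≠ b := fun e => hxb (h.symm (e ▸ hv1))
  have hgv : g • v = v := by
    have e1 := h.smul g hv1; rw [hgx] at e1
    have e2 := h'.smul g hv2; rw [hgb] at e2
    exact (hmeet _ _ (h.trans (h.symm hv1) e1) (h'.trans (h'.symm hv2) e2)).symm
  obtain ⟨n, hn⟩ := hz.trans hv2
  have hn1 : z ^ n ≠ 1 := fun e => hvb (by rw [← hn, e, one_smul])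
  have h1 : (z ^ n)⁻¹ * (g * z ^ n * g⁻¹) ∈ kerRel h' ⊓ stabilizer A b := by
    refine ⟨(kerRel h').mul_mem ((kerRel h').inv_mem (pow_mem_kerRel hz n))
      ((kerRel_normal h').conj_mem _ (pow_mem_kerRel hz n) g), ?_⟩
    show ((z ^ n)⁻¹ * (g * z ^ n * g⁻¹)) • b = b
    rw [mul_smul, mul_smul, mul_smul, inv_smul_eq_iff.2 hgb.symm, hn, hgv, ← hn, inv_smul_smul]
  rw [hK', Subgroup.mem_bot, inv_mul_eq_one] at h1
  have hc : Commute g (z ^ n) := eq_mul_inv_iff_mul_eq.1 h1 |>.symm
  obtain ⟨t, ht⟩ := hz.pow_mem_generates hn1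
  have hcz : Commute g z := by rw [← ht]; exact hc.pow_right t
  have : g ∈ kerRel h ⊓ stabilizer A b := by
    refine ⟨fun y => ?_, hgb⟩
    obtain ⟨u, hu1, hu2⟩ := exists_meet hX h h' hmeet y b
    have hgu : g • u = u := by
      obtain ⟨i, rfl⟩ := hz.trans hu2
      rw [← mul_smul, (hcz.pow_right i).eq, mul_smul, hgb]
    have e1 := h.smul g hu1; rw [hgu] at e1
    exact h.trans hu1 (h.symm e1)
  rw [hK, Subgroup.mem_bot] at this
  exact this

/-- With two systems: a subgroup of the stabiliser fixes exactly `p` points, or semiregular. -/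
theorem two_systems_dichotomy {r r' : X → X → Prop} (hX : Nat.card X = p ^ 2)
    (h : IsBlockRel A p r) (h' : IsBlockRel A p r')
    (hmeet : ∀ x y, r x y → r' x y → x = y) {b : X}
    (hb : ¬ p ∣ Nat.card (stabilizer A b)) :
    (∃ Q : Subgroup A, (∀ q ∈ Q, q • b = b) ∧ (fixSet X Q).ncard = p) ∨
      SemiregBound A p b := by
  have hmeet' : ∀ x y, r' x y → r x y → x = y := fun x y a c => hmeet x y c a
  by_cases hK : kerRel h ⊓ stabilizer A b = ⊥
  case neg =>
    exact Or.inl ⟨kerRel h ⊓ stabilizer A b, fun q hq => hq.2,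
      by rw [fixSet_kerRel_stab hX h h' hmeet hb hK, relClass, h'.card]⟩
  by_cases hK' : kerRel h' ⊓ stabilizer A b = ⊥
  case neg =>
    exact Or.inl ⟨kerRel h' ⊓ stabilizer A b, fun q hq => hq.2,
      by rw [fixSet_kerRel_stab hX h' h hmeet' hb hK', relClass, h.card]⟩
  refine Or.inr ?_
  obtain ⟨P⟩ : Nonempty (Sylow p A) := inferInstance
  obtain ⟨z, hz⟩ := exists_isClassCycle hX h hb P
  refine semiregBound_of_cycle hz (fun g hg => ?_) fun g x hgb hgx hxb => ?_
  · have hk := (kerRel_normal h).conj_mem z hz.memK g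
    obtain ⟨n, hn⟩ := hz.trans (hk b)
    have : (z ^ n)⁻¹ * (g * z * g⁻¹) ∈ kerRel h ⊓ stabilizer A b :=
      ⟨(kerRel h).mul_mem ((kerRel h).inv_mem (pow_mem_kerRel hz n)) hk,
        show _ • b = b by rw [mul_smul, ← hn, inv_smul_smul]⟩
    rw [hK, Subgroup.mem_bot, inv_mul_eq_one] at this
    exact this ▸ Subgroup.npow_mem_zpowers z n
  · by_cases hr : r b x
    · exact eq_one_of_two_systems hX h' h hmeet' hb hK' hK hgb hgx
        fun hr' => hxb (hmeet _ _ hr hr').symm
    · exact eq_one_of_two_systems hX h h' hmeet hb hK hK' hgb hgx hr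

end CfsgLib.TwoTransSqSucc
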