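/-
A 2-transitive group of degree `p ^ 2 + 1` is doubly primitive, or has order 20 with `p = 2`.
-/
import Cfsg.Agent.Lib.TwoTransSqSucc.Systems
import Cfsg.Agent.Lib.TwoTransSqSucc.Counting

set_option autoImplicit false

namespace CfsgLib.TwoTransSqSucc

open MulAction

section Generic

variable {A X : Type*} [Group A] [MulAction A X] [Finite A] [Finite X] {p : ℕ}
  [hp : Fact p.Prime] [IsPretransitive A X] [FaithfulSMul A X]

omit [Finite A] [Finite X] hp [IsPretransitive A X] [FaithfulSMul A X] in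
/-- An element fixing `b` permutes the class of `b`. -/
theorem smul_mem_class {r : X → X → Prop} (h : IsBlockRel A p r) {g : A} {b y : X}
    (hgb : g • b = b) (hy : r b y) : r b (g • y) := by
  have := h.smul g hy; rwa [hgb] at this

omit [Finite A] [IsPretransitive A X] [FaithfulSMul A X] in
/-- An element fixing two points of a class of size three fixes the class. -/
theorem fix_class_three {r : X → X → Prop} (h : IsBlockRel A p r) (hp3 : p = 3) {g : A}
    {b u w : X} (hgb : g • b = b) (hu : r b u) (hub : u ≠ b) (hgu : g • u = u) (hw : r b w) :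
    g • w = w := by
  by_contra hne
  have hgw : r b (g • w) := smul_mem_class h hgb hw
  have h1 : w ≠ b := fun e => hne (e ▸ hgb)
  have h2 : w ≠ u := fun e => hne (e ▸ hgu)
  have h3 : g • w ≠ b := fun e => h1 (MulAction.injective g (e.trans hgb.symm))
  have h4 : g • w ≠ u := fun e => h2 (MulAction.injective g (e.trans hgu.symm))
  have hsub : ({b, u, w, g • w} : Set X) ⊆ {y | r b y} := by
    rintro y (rfl | rfl | rfl | rfl)
    exacts [h.refl _, hu, hw, hgw]
  have := Set.ncard_le_ncard hsub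
  rw [h.card, hp3, Set.ncard_insert_of_notMem (by simp [hub.symm, h1.symm, h3.symm]),
    Set.ncard_insert_of_notMem (by simp [h2.symm, h4.symm]),
    Set.ncard_pair (Ne.symm hne)] at this
  omega

omit [Finite A] [IsPretransitive A X] [FaithfulSMul A X] in
/-- The square of an element fixing `b` fixes the class of `b` of size at most three. -/
theorem sq_fix_class_three {r : X → X → Prop} (h : IsBlockRel A p r) (hp3 : p = 3) {g : A}
    {b w : X} (hgb : g • b = b) (hw : r b w) : g • g • w = w := by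
  by_cases h1 : g • w = w
  · rw [h1, h1]
  by_contra hne
  have h2 : w ≠ b := fun e => h1 (e ▸ hgb)
  have h3 : g • w ≠ b := fun e => h2 (MulAction.injective g (e.trans hgb.symm))
  have h4 : g • g • w ≠ b := fun e => h3 (MulAction.injective g (e.trans hgb.symm))
  have h5 : g • g • w ≠ g • w := fun e => h1 (MulAction.injective g e)
  have hsub : ({b, w, g • w, g • g • w} : Set X) ⊆ {y | r b y} := by
    rintro y (rfl | rfl | rfl | rfl)
    exacts [h.refl _, hw, smul_mem_class h hgb hw,
      smul_mem_class h hgb (smul_mem_class h hgb hw)]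
  have := Set.ncard_le_ncard hsub
  rw [h.card, hp3, Set.ncard_insert_of_notMem (by simp [h2.symm, h3.symm, h4.symm]),
    Set.ncard_insert_of_notMem (by simp [Ne.symm h1, Ne.symm hne]),
    Set.ncard_pair h5.symm] at this
  omega

/-- An element fixing both classes of `b` pointwise is trivial. -/
theorem eq_one_of_fix_two_classes {r r' : X → X → Prop} (hX : Nat.card X = p ^ 2)
    (h : IsBlockRel A p r) (h' : IsBlockRel A p r') (hmeet : ∀ x y, r x y → r' x y → x = y)
    {g : A} {b : X} (h1 : ∀ y, r b y → g • y = y) (h2 : ∀ y, r' b y → g • y = y) : g = 1 := by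
  refine FaithfulSMul.eq_of_smul_eq_smul (α := X) fun x => ?_
  rw [one_smul]
  obtain ⟨v, hv1, hv2⟩ := exists_meet hX h h' hmeet b x
  obtain ⟨w, hw1, hw2⟩ := exists_meet hX h h' hmeet x b
  have e1 := h'.smul g hv2; rw [h1 v hv1] at e1
  have e2 := h.smul g hw1; rw [h2 w hw2] at e2
  exact (hmeet _ _ (h.trans hw1 (h.symm e2)) (h'.trans hv2 (h'.symm e1))).symm

/-- With two systems of classes of size three the stabiliser has order at most four. -/
theorem card_stabilizer_le_four {r r' : X → X → Prop} (hX : Nat.card X = p ^ 2) (hp3 : p = 3)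
    (h : IsBlockRel A p r) (h' : IsBlockRel A p r') (hmeet : ∀ x y, r x y → r' x y → x = y)
    (b : X) : Nat.card (stabilizer A b) ≤ 4 := by
  obtain ⟨u, hu, hub⟩ := Set.exists_ne_of_one_lt_ncard
    (show 1 < {y | r b y}.ncard by rw [h.card]; omega) b
  obtain ⟨v, hv, hvb⟩ := Set.exists_ne_of_one_lt_ncard
    (show 1 < {y | r' b y}.ncard by rw [h'.card]; omega) b
  have hc : ∀ {s : X → X → Prop}, IsBlockRel A p s →
      ({y | s b y} \ {b}).ncard = 2 := fun {s} hs => by
    rw [Set.ncard_sdiff_singleton_of_mem (show b ∈ {y | s b y} from hs.refl b), hs.card, hp3]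
  calc Nat.card (stabilizer A b)
      ≤ Nat.card (({y | r b y} \ {b} : Set X) × ({y | r' b y} \ {b} : Set X)) := by
        refine Nat.card_le_card_of_injective (fun g : stabilizer A b =>
          (⟨(g : A) • u, smul_mem_class h g.2 hu,
              fun e => hub (MulAction.injective (g : A) (e.trans g.2.symm))⟩,
            ⟨(g : A) • v, smul_mem_class h' g.2 hv,
              fun e => hvb (MulAction.injective (g : A) (e.trans g.2.symm))⟩)) ?_
        intro g g' hgg
        obtain ⟨e1, e2⟩ := Prod.ext_iff.1 hgg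
        have f1 : ((g' : A)⁻¹ * g) • u = u := by
          rw [mul_smul, inv_smul_eq_iff]; exact congrArg Subtype.val e1
        have f2 : ((g' : A)⁻¹ * g) • v = v := by
          rw [mul_smul, inv_smul_eq_iff]; exact congrArg Subtype.val e2
        have f0 : ((g' : A)⁻¹ * g) • b = b := ((g'⁻¹ * g : stabilizer A b)).2
        have := eq_one_of_fix_two_classes hX h h' hmeet (b := b)
          (fun y hy => fix_class_three h hp3 f0 hu hub f1 hy)
          (fun y hy => fix_class_three h' hp3 f0 hv hvb f2 hy)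
        exact Subtype.ext (inv_mul_eq_one.1 this).symm
    _ = 4 := by rw [Nat.card_prod, Nat.card_coe_set_eq, Nat.card_coe_set_eq, hc h, hc h']

/-- In the exceptional configuration, two involutions and their product. -/
theorem involutions_of_fixSets {r r' : X → X → Prop} (hX : Nat.card X = p ^ 2) (hp3 : p = 3)
    (h : IsBlockRel A p r) (h' : IsBlockRel A p r') (hmeet : ∀ x y, r x y → r' x y → x = y)
    {b : X} {Q Q' : Subgroup A} (hQ : fixSet X Q = relClass r b)
    (hQ' : fixSet X Q' = relClass r' b) :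
    ∃ u v : A, u • b = b ∧ v • b = b ∧ u * u = 1 ∧ u * v * (u * v) = 1 ∧
      (∀ x, u • x = x ↔ r b x) ∧ (∀ x, (u * v) • x = x ↔ x = b) := by
  have key : ∀ {s t : X → X → Prop} (_ : IsBlockRel A p s) (_ : IsBlockRel A p t)
      (_ : ∀ x y, s x y → t x y → x = y) (R : Subgroup A), fixSet X R = relClass s b →
      ∃ u : A, u • b = b ∧ u * u = 1 ∧ ∀ x, u • x = x ↔ s b x := by
    intro s t hs ht hm R hR
    obtain ⟨u, huR, hu1⟩ : ∃ u ∈ R, u ≠ 1 := by
      by_contra hh
      push_neg at hh
      have : fixSet X R = Set.univ := Set.eq_univ_of_forall fun x q hq => by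
        rw [hh q hq, one_smul]
      rw [this] at hR
      have := congrArg Set.ncard hR
      rw [Set.ncard_univ, hX, relClass, hs.card, hp3] at this
      norm_num at this
    have hfixs : ∀ y, s b y → u • y = y := fun y hy =>
      (show y ∈ fixSet X R by rw [hR]; exact hy) u huR
    have hub : u • b = b := hfixs b (hs.refl b)
    refine ⟨u, hub, ?_, fun x => ⟨fun hx => ?_, hfixs x⟩⟩
    · refine eq_one_of_fix_two_classes hX hs ht hm (b := b) (fun y hy => ?_) (fun y hy => ?_)
      · rw [mul_smul, hfixs y hy, hfixs y hy]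
      · rw [mul_smul, sq_fix_class_three ht hp3 hub hy]
    · obtain ⟨w, hw1, hw2⟩ := exists_meet hX hs ht hm x b
      have e1 := hs.smul u hw1; rw [hx] at e1
      have e2 := ht.smul u hw2; rw [hub] at e2
      have huw : u • w = w :=
        (hm _ _ (hs.trans (hs.symm hw1) e1) (ht.trans (ht.symm hw2) e2)).symm
      by_cases hwb : w = b
      · exact hwb ▸ hs.symm hw1
      · refine absurd (eq_one_of_fix_two_classes hX hs ht hm (b := b) hfixs fun y hy =>
          fix_class_three ht hp3 hub hw2 hwb huw hy) hu1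
  have hmeet' : ∀ x y, r' x y → r x y → x = y := fun x y a c => hmeet x y c a
  obtain ⟨u, hub, hu2, hu⟩ := key h h' hmeet Q hQ
  obtain ⟨v, hvb, hv2, hv⟩ := key h' h hmeet' Q' hQ'
  refine ⟨u, v, hub, hvb, hu2, ?_, hu, fun x => ⟨fun hx => ?_, ?_⟩⟩
  · refine eq_one_of_fix_two_classes hX h h' hmeet (b := b) (fun y hy => ?_) (fun y hy => ?_)
    · simp only [mul_smul]
      rw [(hu _).2 (smul_mem_class h hvb hy),
        (hu _).2 (smul_mem_class h hvb (smul_mem_class h hvb hy)),
        sq_fix_class_three h hp3 hvb hy]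
    · simp only [mul_smul]
      rw [(hv y).2 hy, (hv _).2 (smul_mem_class h' hub hy), sq_fix_class_three h' hp3 hub hy]
  · have huvb : (u * v) • b = b := by rw [mul_smul, hvb, hub]
    obtain ⟨w, hw1, hw2⟩ := exists_meet hX h h' hmeet x b
    obtain ⟨w', hw1', hw2'⟩ := exists_meet hX h h' hmeet b x
    have hw : (u * v) • w = w := by
      have e1 := h.smul (u * v) hw1; rw [hx] at e1
      have e2 := h'.smul (u * v) hw2; rw [huvb] at e2
      exact (hmeet _ _ (h.trans (h.symm hw1) e1) (h'.trans (h'.symm hw2) e2)).symm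
    rw [mul_smul, (hv w).2 hw2, hu] at hw
    have hwb : w = b := (hmeet _ _ hw hw2).symm
    have hw' : (u * v) • w' = w' := by
      have e1 := h.smul (u * v) hw1'; rw [huvb] at e1
      have e2 := h'.smul (u * v) hw2'; rw [hx] at e2
      exact (hmeet _ _ (h.trans (h.symm hw1') e1) (h'.trans (h'.symm hw2') e2)).symm
    rw [mul_smul, (hu _).2 (smul_mem_class h hvb hw1'), hv] at hw'
    have hwb' : w' = b := (hmeet _ _ hw1' hw').symm
    exact hmeet _ _ (hwb ▸ hw1) (hwb' ▸ hw2')
  · rintro rfl
    rw [mul_smul, hvb, hub]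

end Generic

section TwoTransitive

variable {G Ω : Type*} [Group G] [Finite G] [Fintype Ω] [MulAction G Ω] [FaithfulSMul G Ω]

/-- A stabiliser bounded by `p - 1` and semiregular is impossible for odd `p`. -/
theorem semireg_false {p : ℕ} (hp : p.Prime) (hp2 : p ≠ 2)
    (hΩ : Fintype.card Ω = p ^ 2 + 1) (h2 : IsMultiplyPretransitive G Ω 2) {a b : Ω}
    (hab : a ≠ b) (H : Subgroup G) (hH : ∀ g, g ∈ H ↔ g • a = a ∧ g • b = b)
    (hsemi : ∀ g ∈ H, ∀ x, g • x = x → x ≠ a → x ≠ b → g = 1)
    (hHcard : Nat.card H ≤ p - 1) (hG : Nat.card G = (p ^ 2 + 1) * (p ^ 2 * Nat.card H))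
    (hGa : Nat.card (stabilizer G a) = p ^ 2 * Nat.card H) : False := by
  classical
  have hp1 := hp.two_le
  have h2' : ∀ {x y x' y' : Ω}, x ≠ y → x' ≠ y' → ∃ g : G, g • x = x' ∧ g • y = y' :=
    fun hx hy => is_two_pretransitive_iff.1 h2 hx hy
  by_cases hev : 2 ∣ Nat.card H
  · obtain ⟨⟨t, ht⟩, hto⟩ := exists_prime_orderOf_dvd_card' 2 hev
    rw [Subgroup.orderOf_mk] at hto
    have htt : t * t = 1 := by rw [← sq, ← hto, pow_orderOf_eq_one]
    have hfix : ∀ x, t • x = x ↔ x = a ∨ x = b := fun x => by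
      constructor
      · intro hx
        by_contra hne
        push_neg at hne
        have := hsemi t ht x hx hne.1 hne.2
        rw [this, orderOf_one] at hto
        omega
      · rintro (rfl | rfl)
        exacts [((hH t).1 ht).1, ((hH t).1 ht).2]
    obtain ⟨S, hS, hScard⟩ := exists_swaps h2 htt hab hfix
    rcases S.eq_empty_or_nonempty with h0 | ⟨t0, ht0⟩
    · rw [h0, Finset.card_empty, hΩ] at hScard
      have : 4 ≤ p ^ 2 := by nlinarith
      omega
    have hle : S.card ≤ Nat.card H := by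
      rw [← Nat.card_eq_finsetCard]
      refine Nat.card_le_card_of_injective (fun s : S => (⟨t0⁻¹ * s.1, (hH _).2
        ⟨by rw [mul_smul, (hS _ s.2).2.1, ← (hS _ ht0).2.1, inv_smul_smul],
          by rw [mul_smul, (hS _ s.2).2.2, ← (hS _ ht0).2.2, inv_smul_smul]⟩⟩ : H)) ?_
      intro s s' hss
      exact Subtype.ext (mul_left_cancel (congrArg Subtype.val hss))
    rw [hΩ] at hScard
    have : p * 2 + 1 ≤ p ^ 2 + 1 := by nlinarith
    have : 3 * p ≤ p ^ 2 := by
      rw [sq]; exact Nat.mul_le_mul_right p (by omega)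
    omega
  · have : Fintype G := Fintype.ofFinite G
    have hpodd : p % 2 = 1 := hp.eq_two_or_odd.resolve_left hp2
    have hAodd : ¬ 2 ∣ Nat.card (stabilizer G a) := by
      rw [hGa, Nat.prime_two.dvd_mul]
      rintro (h | h)
      · exact absurd (Nat.prime_two.dvd_of_dvd_pow h) (by omega)
      · exact hev h
    have hhalf : ∃ k, (p ^ 2 + 1) = 2 * k ∧ ¬ 2 ∣ k := by
      obtain ⟨j, rfl⟩ : ∃ j, p = 2 * j + 1 := ⟨p / 2, by omega⟩
      exact ⟨2 * j ^ 2 + 2 * j + 1, by ring, by omega⟩
    obtain ⟨k, hk, hkodd⟩ := hhalf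
    have hGe : 2 ∣ Nat.card G := ⟨k * (p ^ 2 * Nat.card H), by rw [hG, hk]; ring⟩
    obtain ⟨t, hto⟩ := exists_prime_orderOf_dvd_card' (G := G) 2 hGe
    have htt : t * t = 1 := by rw [← sq, ← hto, pow_orderOf_eq_one]
    let φ : G →* ℤˣ := (Equiv.Perm.sign : Equiv.Perm G →* ℤˣ).comp (MulAction.toPermHom G G)
    have hφt : φ t = -1 := by
      show Equiv.Perm.sign (MulAction.toPerm t : Equiv.Perm G) = -1
      rw [sign_toPerm_involution htt]
      have : {x : G | t • x = x} = ∅ := Set.eq_empty_of_forall_notMem fun x hx => by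
        rw [Set.mem_setOf_eq, smul_eq_mul, mul_eq_right] at hx
        rw [hx, orderOf_one] at hto; omega
      rw [this, Set.ncard_empty, Nat.sub_zero, ← Nat.card_eq_fintype_card, hG, hk, mul_assoc,
        Nat.mul_div_cancel_left _ (by omega)]
      refine Odd.neg_one_pow (Nat.odd_iff.2 (Nat.two_dvd_ne_zero.1 fun h => ?_))
      rw [← hGa] at h
      rcases Nat.prime_two.dvd_mul.1 h with h | h
      exacts [hkodd h, hAodd h]
    have hA : ∀ g, g • a = a → φ g = 1 := by
      intro g hg
      rcases Int.units_eq_one_or (φ g) with h | h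
      · exact h
      · exfalso
        have h1 : orderOf (φ g) ∣ Nat.card (stabilizer G a) :=
          (orderOf_map_dvd φ g).trans (Subgroup.orderOf_dvd_natCard (stabilizer G a) hg)
        rw [h, show orderOf (-1 : ℤˣ) = 2 from orderOf_eq_prime (by simp) (by decide)] at h1
        exact hAodd h1
    have hall : ∀ g, φ g = 1 := by
      intro g
      by_cases hg : g • a = a
      · exact hA g hg
      obtain ⟨c, -, hca, hcg⟩ : ∃ c ∈ (Finset.univ : Finset Ω), c ≠ a ∧ c ≠ g • a := by
        by_contra hh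
        push_neg at hh
        have : (Finset.univ : Finset Ω) ⊆ {a, g • a} := fun c hc => by
          by_cases h : c = a
          · simp [h]
          · simp [hh c hc h]
        have := (Finset.card_le_card this).trans Finset.card_le_two
        rw [Finset.card_univ, hΩ] at this
        have : 4 ≤ p ^ 2 := by nlinarith
        omega
      obtain ⟨k, hkc, hka⟩ := h2' hca hcg
      obtain ⟨m, hma, -⟩ := h2' hab (show c ≠ a from hca)
      have h1 : φ k = 1 := by
        have := hA (m⁻¹ * k * m) (by rw [mul_smul, mul_smul, hma, hkc, ← hma, inv_smul_smul])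
        rwa [map_mul, map_mul, map_inv, mul_right_comm, inv_mul_cancel, one_mul] at this
      have h3 := hA (k⁻¹ * g) (by rw [mul_smul, ← hka, inv_smul_smul])
      rwa [map_mul, map_inv, h1, inv_one, one_mul] at h3
    rw [hall t] at hφt
    exact absurd hφt (by decide)

/-- The main theorem. -/
theorem doublyPrimitive_or_frobenius20 (p : ℕ) (hp : p.Prime)
    (hΩ : Fintype.card Ω = p ^ 2 + 1) (h2 : IsMultiplyPretransitive G Ω 2) (a : Ω) :
    IsPreprimitive ↥(stabilizer G a) ↥(SubMulAction.ofStabilizer G a) ∨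
      (p = 2 ∧ Nat.card G = 20) := by
  classical
  by_cases hprim : IsPreprimitive ↥(stabilizer G a) ↥(SubMulAction.ofStabilizer G a)
  · exact Or.inl hprim
  right
  haveI : Fact p.Prime := ⟨hp⟩
  have h2' : ∀ {x y x' y' : Ω}, x ≠ y → x' ≠ y' → ∃ g : G, g • x = x' ∧ g • y = y' :=
    fun hx hy => is_two_pretransitive_iff.1 h2 hx hy
  have hmem : ∀ x, x ∈ SubMulAction.ofStabilizer G a ↔ x ≠ a := fun x => Iff.rfl
  have hX : Nat.card ↥(SubMulAction.ofStabilizer G a) = p ^ 2 := by
    have : Nat.card ↥(SubMulAction.ofStabilizer G a) = Nat.card {x : Ω // x ≠ a} :=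
      Nat.card_congr (Equiv.subtypeEquivRight hmem)
    rw [this, Nat.card_eq_fintype_card, Fintype.card_subtype_compl, Fintype.card_subtype_eq, hΩ,
      Nat.add_sub_cancel]
  haveI htr : IsPretransitive ↥(stabilizer G a) ↥(SubMulAction.ofStabilizer G a) :=
    ⟨fun x y => by
      obtain ⟨g, hga, hgx⟩ := h2' ((hmem x.1).1 x.2).symm ((hmem y.1).1 y.2).symm
      exact ⟨⟨g, hga⟩, Subtype.ext hgx⟩⟩
  haveI : FaithfulSMul ↥(stabilizer G a) ↥(SubMulAction.ofStabilizer G a) := ⟨fun {g g'} hgg => by
    refine Subtype.ext (FaithfulSMul.eq_of_smul_eq_smul (α := Ω) fun x => ?_)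
    by_cases hx : x = a
    · subst hx; exact (g.2 : (g : G) • x = x).trans (g'.2 : (g' : G) • x = x).symm
    · exact congrArg Subtype.val (hgg ⟨x, (hmem x).2 hx⟩)⟩
  obtain ⟨r, h⟩ := exists_isBlockRel (A := ↥(stabilizer G a)) hX hprim
  obtain ⟨b⟩ : Nonempty ↥(SubMulAction.ofStabilizer G a) :=
    (Nat.card_pos_iff.1 (by rw [hX]; exact pow_pos hp.pos 2)).1
  have hab : a ≠ (b : Ω) := ((hmem b.1).1 b.2).symm
  -- lines through `a` and `b`
  set lineOf : Set ↥(SubMulAction.ofStabilizer G a) → Finset Ω :=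
    fun S => insert a ((Set.toFinite S).toFinset.image Subtype.val) with hlineOf
  have hline_mem : ∀ S x, x ∈ lineOf S ↔ x = a ∨ ∃ hx, (⟨x, hx⟩ : ↥(SubMulAction.ofStabilizer G a)) ∈ S := by
    intro S x
    simp [hlineOf]
  have hline_card : ∀ S, (lineOf S).card = S.ncard + 1 := by
    intro S
    rw [hlineOf]
    simp only
    rw [Finset.card_insert_of_notMem, Finset.card_image_of_injective _ Subtype.val_injective,
      Set.ncard_eq_toFinset_card S]
    intro hmem'
    obtain ⟨y, -, hy⟩ := Finset.mem_image.1 hmem'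
    exact (hmem y.1).1 y.2 hy
  have hfix_mem : ∀ (Q : Subgroup ↥(stabilizer G a)) (x : Ω),
      x ∈ lineOf (fixSet ↥(SubMulAction.ofStabilizer G a) Q) ↔
        ∀ q ∈ Q, (q : G) • x = x := by
    intro Q x
    rw [hline_mem]
    constructor
    · rintro (rfl | ⟨hx, hfix⟩) q hq
      exacts [q.2, congrArg Subtype.val (hfix q hq)]
    · intro hfix
      by_cases hx : x = a
      · exact Or.inl hx
      · exact Or.inr ⟨(hmem x).2 hx, fun q hq => Subtype.ext (hfix q hq)⟩
  have hline_iff : ∀ (Pr : Subgroup G → Prop) (L : Finset Ω),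
      L ∈ (lineSets Ω Pr p).filter (fun L => a ∈ L ∧ (b : Ω) ∈ L) →
      ∃ Q' : Subgroup G, Pr Q' ∧ ∃ Q : Subgroup ↥(stabilizer G a),
        Q = Q'.subgroupOf (stabilizer G a) ∧ (∀ q ∈ Q, q • b = b) ∧
        (fixSet ↥(SubMulAction.ofStabilizer G a) Q).ncard = p ∧
        L = lineOf (fixSet ↥(SubMulAction.ofStabilizer G a) Q) := by
    intro Pr L hL
    obtain ⟨hL, ha, hb⟩ := Finset.mem_filter.1 hL
    obtain ⟨hc, Q', hQ', hx⟩ := mem_lineSets.1 hL
    refine ⟨Q', hQ', _, rfl, fun q hq => Subtype.ext ((hx _).1 hb _ hq), ?_⟩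
    have heq : L = lineOf (fixSet ↥(SubMulAction.ofStabilizer G a)
        (Q'.subgroupOf (stabilizer G a))) := by
      ext x
      rw [hfix_mem, hx]
      exact ⟨fun h q hq => h q hq, fun h q hq => h ⟨q, (hx a).1 ha q hq⟩ hq⟩
    refine ⟨?_, heq⟩
    have := hline_card (fixSet ↥(SubMulAction.ofStabilizer G a) (Q'.subgroupOf (stabilizer G a)))
    rw [← heq, hc] at this
    omega
  have hline_of : ∀ (Pr : Subgroup G → Prop) (Q : Subgroup ↥(stabilizer G a)),
      Pr (Q.map (stabilizer G a).subtype) → (∀ q ∈ Q, q • b = b) →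
      (fixSet ↥(SubMulAction.ofStabilizer G a) Q).ncard = p →
      lineOf (fixSet ↥(SubMulAction.ofStabilizer G a) Q) ∈
        (lineSets Ω Pr p).filter (fun L => a ∈ L ∧ (b : Ω) ∈ L) := by
    intro Pr Q hPr hQb hc
    refine Finset.mem_filter.2 ⟨mem_lineSets.2 ⟨by rw [hline_card, hc], _, hPr, fun x => ?_⟩,
      (hfix_mem Q a).2 fun q _ => q.2,
      (hfix_mem Q b).2 fun q hq => congrArg Subtype.val (hQb q hq)⟩
    rw [hfix_mem]
    exact ⟨fun h => by rintro _ ⟨q, hq, rfl⟩; exact h q hq,
      fun h q hq => h _ (Subgroup.mem_map_of_mem _ hq)⟩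
  have hp1 := hp.two_le
  -- the stabiliser of two points has order prime to `p`
  have hb : ¬ p ∣ Nat.card (stabilizer ↥(stabilizer G a) b) := by
    intro hd
    obtain ⟨Q, hQ, hQb, hQc⟩ := exists_pgroup_fixSet hX h hd
    have hdiv := succ_dvd_two_mul_lineSets (G := G) hp hΩ h2 (Pr := fun Q => IsPGroup p Q)
      (fun Q g hQ => hQ.map _) hab
    have hone : ((lineSets Ω (fun Q : Subgroup G => IsPGroup p Q) p).filter
        fun L => a ∈ L ∧ (b : Ω) ∈ L) = {lineOf (relClass r b)} := by
      ext L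
      rw [Finset.mem_singleton]
      constructor
      · intro hL
        obtain ⟨Q', hQ', Q₁, rfl, hb₁, hc₁, rfl⟩ := hline_iff _ L hL
        exact congrArg lineOf (pgroup_fixSet_eq_class hX h (hQ'.comap_subtype) hb₁ hc₁)
      · rintro rfl
        rw [← pgroup_fixSet_eq_class hX h hQ hQb hQc]
        exact hline_of _ Q (hQ.map _) hQb hQc
    rw [hone, Finset.card_singleton, mul_one] at hdiv
    have := Nat.le_of_dvd (by norm_num) hdiv
    omega
  haveI : IsPretransitive G Ω := isPretransitive_of_is_two_pretransitive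
  have hA := card_eq_mul_stabilizer (A := ↥(stabilizer G a)) hX b
  have hG : Nat.card G = (p ^ 2 + 1) * Nat.card (stabilizer G a) := by
    rw [← Subgroup.card_mul_index (stabilizer G a), index_stabilizer_of_transitive,
      Nat.card_eq_fintype_card (α := Ω), hΩ, mul_comm]
  by_cases hp2 : p = 2
  · refine ⟨hp2, ?_⟩
    have htriv : Nat.card (stabilizer ↥(stabilizer G a) b) = 1 := by
      refine Subgroup.card_eq_one.2 ((Subgroup.eq_bot_iff_forall _).2 fun g hg => ?_)
      obtain ⟨P⟩ : Nonempty (Sylow p ↥(stabilizer G a)) := inferInstance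
      obtain ⟨z, hz⟩ := exists_isClassCycle hX h hb P
      have hcl : ∀ y, r b y → g • y = y := by
        intro y hy
        by_contra hne
        have hyb : y ≠ b := fun e => hne (e ▸ hg)
        have h3 : g • y ≠ b := fun e => hyb (MulAction.injective g (e.trans hg.symm))
        have hsub : ({b, y, g • y} : Set ↥(SubMulAction.ofStabilizer G a)) ⊆ {w | r b w} := by
          rintro w (rfl | rfl | rfl)
          exacts [h.refl _, hy, smul_mem_class h hg hy]
        have := Set.ncard_le_ncard hsub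
        rw [h.card, hp2, Set.ncard_insert_of_notMem (by simp [hyb.symm, h3.symm]),
          Set.ncard_pair (Ne.symm hne)] at this
        omega
      refine eq_one_of_fix_class hX hz hb (k := g) (fun x => ?_) hcl
      by_cases hx : r b x
      · rw [hcl x hx]; exact h.refl x
      · have hgx : ¬ r b (g • x) := fun hgx => hx (by
          have := smul_mem_class h (inv_smul_eq_iff.2 hg.symm) hgx
          rwa [inv_smul_smul] at this)
        have heq : {w | r x w} = {w | r b w}ᶜ := by
          refine Set.eq_of_subset_of_ncard_le (fun w hw hwb => hx (h.trans hwb (h.symm hw))) ?_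
          rw [Set.ncard_compl, h.card, h.card, hX, hp2]; norm_num
        show g • x ∈ {w | r x w}
        rw [heq]; exact hgx
    rw [hG, hA, htriv, hp2]; norm_num
  exfalso
  have hfinish : SemiregBound ↥(stabilizer G a) p b → False := by
    rintro ⟨hsemi, hcard⟩
    set H := (stabilizer ↥(stabilizer G a) b).map (stabilizer G a).subtype with hHdef
    have hHc : Nat.card H = Nat.card (stabilizer ↥(stabilizer G a) b) :=
      Subgroup.card_map_of_injective (stabilizer G a).subtype_injective
    refine semireg_false hp hp2 hΩ h2 hab H (fun g => ?_) ?_ (hHc ▸ hcard) ?_ ?_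
    · constructor
      · rintro ⟨⟨g, hga⟩, hgb, rfl⟩
        exact ⟨hga, congrArg Subtype.val hgb⟩
      · rintro ⟨hga, hgb⟩
        exact ⟨⟨g, hga⟩, Subtype.ext hgb, rfl⟩
    · rintro _ ⟨g, hgb, rfl⟩ x hx hxa hxb
      rw [hsemi g ⟨x, (hmem x).2 hxa⟩ hgb (Subtype.ext hx) fun e => hxb (congrArg Subtype.val e)]
      rfl
    · rw [hG, hA, hHc]
    · rw [hA, hHc]
  rcases regular_dichotomy hX h hb with ⟨r', h', hmeet⟩ | hs
  swap
  · exact hfinish hs
  rcases two_systems_dichotomy hX h h' hmeet hb with ⟨Q, hQb, hQc⟩ | hs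
  swap
  · exact hfinish hs
  -- lines exist
  set lines := (lineSets Ω (fun _ : Subgroup G => True) p).filter
    fun L => a ∈ L ∧ (b : Ω) ∈ L with hlines
  have hdiv : p + 1 ∣ 2 * lines.card := succ_dvd_two_mul_lineSets (G := G) hp hΩ h2
    (Pr := fun _ => True) (fun _ _ _ => trivial) hab
  have hsubl : lines ⊆ {lineOf (relClass r b), lineOf (relClass r' b)} := by
    intro L hL
    obtain ⟨Q', -, Q₁, -, hb₁, hc₁, rfl⟩ := hline_iff _ L hL
    rcases fixSet_eq_one_of_two hX h h' hmeet hb₁ hc₁ with e | e <;> simp [e]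
  have hpos : 0 < lines.card := Finset.card_pos.2 ⟨_, hline_of (fun _ => True) Q trivial hQb hQc⟩
  have hle2 : lines.card ≤ 2 := (Finset.card_le_card hsubl).trans Finset.card_le_two
  have hdle := Nat.le_of_dvd (by omega) hdiv
  have hp3 : p = 3 := by omega
  have hc2 : lines.card = 2 := by omega
  have heql : lines = {lineOf (relClass r b), lineOf (relClass r' b)} :=
    Finset.eq_of_subset_of_card_le hsubl (Finset.card_le_two.trans hc2.ge)
  have hlineinj : ∀ S S', lineOf S = lineOf S' → S = S' := by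
    intro S S' e
    ext ⟨x, hx⟩
    have h1 := hline_mem S x
    rw [e, hline_mem] at h1
    have hxa : x ≠ a := (hmem x).1 hx
    simpa [hxa, hx] using h1.symm
  have hgetQ : ∀ S, lineOf S ∈ lines →
      ∃ Q : Subgroup ↥(stabilizer G a), fixSet ↥(SubMulAction.ofStabilizer G a) Q = S := by
    intro S hS
    obtain ⟨-, -, Q₁, -, -, -, e⟩ := hline_iff _ _ hS
    exact ⟨Q₁, (hlineinj _ _ e).symm⟩
  obtain ⟨Q₁, hQ₁⟩ := hgetQ (relClass r b) (by rw [heql]; simp)
  obtain ⟨Q₂, hQ₂⟩ := hgetQ (relClass r' b) (by rw [heql]; simp)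
  obtain ⟨u, v, hub, hvb, huu, huv, hu, huvfix⟩ :=
    involutions_of_fixSets hX hp3 h h' hmeet hQ₁ hQ₂
  set t := u * v with ht
  have htfix : ∀ x, (t : G) • x = x ↔ x = a ∨ x = (b : Ω) := by
    intro x
    constructor
    · intro hx
      by_cases hxa : x = a
      · exact Or.inl hxa
      · exact Or.inr (congrArg Subtype.val
          ((huvfix ⟨x, (hmem x).2 hxa⟩).1 (Subtype.ext hx)))
    · rintro (rfl | rfl)
      exacts [t.2, congrArg Subtype.val ((huvfix b).2 rfl)]
  have htt : (t : G) * t = 1 := congrArg Subtype.val huv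
  obtain ⟨S, hS, hScard⟩ := exists_swaps h2 htt hab htfix
  have hΩ10 : Fintype.card Ω = 10 := by rw [hΩ, hp3]; norm_num
  rw [hΩ10] at hScard
  obtain ⟨t0, ht0⟩ : S.Nonempty := Finset.card_pos.1 (by omega)
  have hH4 := card_stabilizer_le_four hX hp3 h h' hmeet b
  let F : S → stabilizer ↥(stabilizer G a) b := fun s =>
    ⟨⟨t0⁻¹ * s.1, by
        show (t0⁻¹ * s.1) • a = a
        rw [mul_smul, (hS _ s.2).2.1]; exact inv_smul_eq_iff.2 (hS _ ht0).2.1.symm⟩,
      Subtype.ext (show (t0⁻¹ * s.1) • (b : Ω) = b by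
        rw [mul_smul, (hS _ s.2).2.2]; exact inv_smul_eq_iff.2 (hS _ ht0).2.2.symm)⟩
  have hF : Function.Injective F := fun s s' e =>
    Subtype.ext (mul_left_cancel (congrArg (fun w : stabilizer ↥(stabilizer G a) b =>
      ((w : ↥(stabilizer G a)) : G)) e))
  have hFbij := hF.bijective_of_nat_card_le (by rw [Nat.card_eq_finsetCard]; omega)
  obtain ⟨s, hs⟩ := hFbij.2 ⟨u, hub⟩
  have hsu : t0⁻¹ * s.1 = (u : G) := congrArg (fun w : stabilizer ↥(stabilizer G a) b =>
      ((w : ↥(stabilizer G a)) : G)) hs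
  let φ : G →* ℤˣ := (Equiv.Perm.sign : Equiv.Perm Ω →* ℤˣ).comp (MulAction.toPermHom G Ω)
  have hφconj : ∀ w ∈ S, φ w = φ (t : G) := fun w hw =>
    (isConj_iff_eq.1 (φ.map_isConj (hS w hw).1)).symm
  have hφu : φ (u : G) = 1 := by
    rw [← hsu, map_mul, map_inv, hφconj _ ht0, hφconj _ s.2, inv_mul_cancel]
  have hufix : {x : Ω | (u : G) • x = x}.ncard = 4 := by
    have e : {x : Ω | (u : G) • x = x} = ↑(lineOf (relClass r b)) := by
      ext x
      rw [Set.mem_setOf_eq, Finset.mem_coe, hline_mem]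
      constructor
      · intro hx
        by_cases hxa : x = a
        · exact Or.inl hxa
        · exact Or.inr ⟨(hmem x).2 hxa, (hu _).1 (Subtype.ext hx)⟩
      · rintro (rfl | ⟨hx, hr⟩)
        exacts [u.2, congrArg Subtype.val ((hu _).2 hr)]
    rw [e, Set.ncard_coe_finset, hline_card, relClass, h.card, hp3]
  have hsign : φ (u : G) = -1 := by
    show Equiv.Perm.sign (MulAction.toPerm (u : G) : Equiv.Perm Ω) = -1
    rw [sign_toPerm_involution (congrArg Subtype.val huu), hufix, hΩ10]
    decide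
  rw [hφu] at hsign
  exact absurd hsign (by decide)

end TwoTransitive

end CfsgLib.TwoTransSqSucc
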